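import Groth.Agent.Lib.Curve17.SubSheaf
import Groth.Agent.Lib.Twist.Gen
import Groth.Agent.Lib.Twist.GenLocus

/-!
# Gluing an invertible module on an open `U` with free modules on opens meeting only inside `U`
-/

set_option autoImplicit false
set_option linter.style.haveILetI false
universe u

open CategoryTheory AlgebraicGeometry TopologicalSpace Opposite

namespace Groth.Agent.Pic18

open Groth.Agent.M1

/-- An open `U`, a module with given generators on the `V i ⊓ U`, and opens meeting pairwise in `U`. -/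
structure Glue (X : Scheme.{u}) where
  U : X.Opens
  ι : Type u
  V : ι → X.Opens
  P : X.Modules
  g : ∀ i, Γ(P, V i ⊓ U)
  hg : ∀ i, Twist.IsGen P (V i ⊓ U) (g i)
  hP : ∀ p ∈ U, ∃ (D : X.Opens) (n : Γ(P, D)), p ∈ D ∧ D ≤ U ∧ Twist.IsGen P D n
  disj : ∀ i j, i ≠ j → V i ⊓ V j ≤ U
  cov : ∀ p : X, p ∈ U ∨ ∃ i, p ∈ V i

namespace Glue

variable {X : Scheme.{u}} (G : Glue X)

/-- The values of sections of the glued module. -/
abbrev T (p : X) : Type u := Prod ↑(G.P.presheaf.stalk p) ↑(X.presheaf.stalk p)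

open scoped Classical in
/-- The value of the generator on `V i`. -/
noncomputable def E (i : G.ι) (p : X) : G.T p :=
  if h : p ∈ G.V i ⊓ G.U then (G.P.presheaf.germ (G.V i ⊓ G.U) p h (G.g i), 0) else (0, 1)

theorem E_pos {i : G.ι} {p : X} (h : p ∈ G.V i ⊓ G.U) :
    G.E i p = (G.P.presheaf.germ (G.V i ⊓ G.U) p h (G.g i), 0) := dif_pos h

theorem E_neg {i : G.ι} {p : X} (h : p ∉ G.U) : G.E i p = (0, 1) := dif_neg fun h' => h h'.2

/-- A section of the module. -/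
def IsN (W : X.Opens) (f : ∀ p : W, G.T p.1) : Prop :=
  ∃ n : Γ(G.P, W), ∀ p : W, f p = (G.P.presheaf.germ W p.1 p.2 n, 0)

/-- A multiple of the generator. -/
def IsM (i : G.ι) (W : X.Opens) (f : ∀ p : W, G.T p.1) : Prop :=
  ∃ a : Γ(X, W), ∀ p : W, f p = X.presheaf.germ W p.1 p.2 a • G.E i p.1

/-- A section of the glued module, as a predicate. -/
noncomputable def pre : TopCat.PrelocalPredicate G.T where
  pred {W} f := (W ≤ G.U ∧ G.IsN W f) ∨ ∃ i, W ≤ G.V i ∧ G.IsM i W f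
  res {W W'} k f := by
    rintro (⟨hW, n, hn⟩ | ⟨i, hi, a, ha⟩)
    · refine Or.inl ⟨k.le.trans hW, mres G.P k.le n, fun p => ?_⟩
      rw [germ_mres]
      exact hn ⟨p.1, k.le p.2⟩
    · refine Or.inr ⟨i, k.le.trans hi, ores k.le a, fun p => ?_⟩
      refine (ha ⟨p.1, k.le p.2⟩).trans ?_
      exact congrArg (· • G.E i p.1) (X.presheaf.germ_res_apply k p.1 p.2 a).symm

variable {G} in
theorem isN_of_pre {W : X.Opens} {f : ∀ p : W, G.T p.1} (h : G.pre.pred f) (hW : W ≤ G.U) :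
    G.IsN W f := by
  rcases h with ⟨-, h⟩ | ⟨i, hi, a, ha⟩
  · exact h
  · refine ⟨a • mres G.P (le_inf hi hW) (G.g i), fun p => ?_⟩
    rw [germ_smul, germ_mres, ha p, G.E_pos ⟨hi p.2, hW p.2⟩, Prod.smul_mk, smul_zero]

variable {G} in
theorem isM_of_pre {W : X.Opens} {f : ∀ p : W, G.T p.1} (h : G.pre.pred f) {i : G.ι} (hi : W ≤ G.V i) :
    G.IsM i W f := by
  by_cases hW : W ≤ G.U
  · obtain ⟨n, hn⟩ := isN_of_pre h hW
    obtain ⟨a, ha⟩ := (G.hg i W (le_inf hi hW)).2 n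
    refine ⟨a, fun p => ?_⟩
    rw [hn p, ← ha, germ_smul, germ_mres, G.E_pos ⟨hi p.2, hW p.2⟩, Prod.smul_mk, smul_zero]
  · rcases h with ⟨h', -⟩ | ⟨j, hj, h⟩
    · exact absurd h' hW
    · by_cases e : j = i
      · exact e ▸ h
      · exact absurd ((le_inf hj hi).trans (G.disj j i e)) hW

theorem germ_inj {i : G.ι} {p : X} (hp : p ∈ G.V i) :
    Function.Injective fun c : X.presheaf.stalk p => c • G.E i p := by
  intro c c' h
  by_cases hU : p ∈ G.U
  · simp only [G.E_pos ⟨hp, hU⟩, Prod.smul_mk] at h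
    exact ((G.hg i).stalk ⟨hp, hU⟩).1 (Prod.mk.inj h).1
  · simp only [G.E_neg hU, Prod.smul_mk] at h
    simpa [smul_eq_mul] using (Prod.mk.inj h).2

instance : Mero.IsModPred G.pre.sheafify where
  zero W := fun p => by
    rcases G.cov p.1 with h | ⟨i, h⟩
    · exact ⟨W ⊓ G.U, ⟨p.2, h⟩, homOfLE inf_le_left,
        Or.inl ⟨inf_le_right, 0, fun q => by rw [map_zero]; rfl⟩⟩
    · exact ⟨W ⊓ G.V i, ⟨p.2, h⟩, homOfLE inf_le_left,
        Or.inr ⟨i, inf_le_right, 0, fun q => by rw [map_zero, zero_smul]; rfl⟩⟩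
  add W f f' hf hf' := fun p => by
    obtain ⟨A, hA, kA, h⟩ := hf p
    obtain ⟨B, hB, kB, h'⟩ := hf' p
    rcases G.cov p.1 with hp | ⟨i, hp⟩
    · let C : X.Opens := A ⊓ B ⊓ G.U
      have h1 := G.pre.res (homOfLE (inf_le_left.trans inf_le_left : C ≤ A)) _ h
      have h2 := G.pre.res (homOfLE (inf_le_left.trans inf_le_right : C ≤ B)) _ h'
      obtain ⟨n, hn⟩ := isN_of_pre h1 inf_le_right
      obtain ⟨n', hn'⟩ := isN_of_pre h2 inf_le_right
      refine ⟨C, ⟨⟨hA, hB⟩, hp⟩, homOfLE ((inf_le_left.trans inf_le_left).trans kA.le),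
        Or.inl ⟨inf_le_right, n + n', fun q => ?_⟩⟩
      rw [map_add]
      exact (congrArg₂ (· + ·) (hn q) (hn' q)).trans (Prod.ext rfl (add_zero _))
    · let C : X.Opens := A ⊓ B ⊓ G.V i
      have h1 := G.pre.res (homOfLE (inf_le_left.trans inf_le_left : C ≤ A)) _ h
      have h2 := G.pre.res (homOfLE (inf_le_left.trans inf_le_right : C ≤ B)) _ h'
      obtain ⟨a, ha⟩ := isM_of_pre h1 (i := i) inf_le_right
      obtain ⟨a', ha'⟩ := isM_of_pre h2 (i := i) inf_le_right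
      refine ⟨C, ⟨⟨hA, hB⟩, hp⟩, homOfLE ((inf_le_left.trans inf_le_left).trans kA.le),
        Or.inr ⟨i, inf_le_right, a + a', fun q => ?_⟩⟩
      rw [map_add, add_smul]
      exact congrArg₂ (· + ·) (ha q) (ha' q)
  smul W r f hf := fun p => by
    obtain ⟨A, hA, kA, h⟩ := hf p
    refine ⟨A, hA, kA, ?_⟩
    rcases h with ⟨hAU, n, hn⟩ | ⟨i, hi, a, ha⟩
    · refine Or.inl ⟨hAU, ores kA.le r • n, fun q => ?_⟩
      rw [germ_smul]
      refine (congrArg₂ (· • ·) (X.presheaf.germ_res_apply kA q.1 q.2 r).symm (hn q)).trans ?_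
      exact Prod.ext rfl (smul_zero _)
    · refine Or.inr ⟨i, hi, ores kA.le r * a, fun q => ?_⟩
      rw [map_mul, mul_smul]
      exact congrArg₂ (· • ·) (X.presheaf.germ_res_apply kA q.1 q.2 r).symm (ha q)

/-- The glued module. -/
noncomputable def mod : X.Modules := Mero.modOf G.pre.sheafify

theorem isGen_of {D : X.Opens} (s : Γ(G.mod, D))
    (hinj : ∀ p : D, Function.Injective fun c : X.presheaf.stalk p.1 => c • s.1 p)
    (hsurj : ∀ (W : X.Opens) (hW : W ≤ D) (f : ∀ p : W, G.T p.1), G.pre.pred f →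
      ∃ a : Γ(X, W), ∀ p : W, f p = X.presheaf.germ W p.1 p.2 a • s.1 ⟨p.1, hW p.2⟩) :
    Twist.IsGen G.mod D s := by
  intro V hV
  constructor
  · intro r r' e
    refine TopCat.Presheaf.section_ext X.sheaf V r r' fun x hx => hinj ⟨x, hV hx⟩ ?_
    exact congrArg (fun m : Γ(G.mod, V) => m.1 ⟨x, hx⟩) e
  · intro f
    choose A hA k h using f.2
    choose a ha using fun x : V => hsurj (A x) ((k x).le.trans hV) _ (h x)
    obtain ⟨R, hR, -⟩ := X.sheaf.existsUnique_gluing' A V k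
      (fun x hx => Opens.mem_iSup.2 ⟨⟨x, hx⟩, hA ⟨x, hx⟩⟩) a fun x y => by
        refine TopCat.Presheaf.section_ext X.sheaf _ _ _ fun q hq => hinj ⟨q, hV ((k x).le hq.1)⟩ ?_
        change X.presheaf.germ _ q hq (X.presheaf.map _ (a x)) • _ =
          X.presheaf.germ _ q hq (X.presheaf.map _ (a y)) • _
        erw [X.presheaf.germ_res_apply, X.presheaf.germ_res_apply]
        exact (ha x ⟨q, hq.1⟩).symm.trans (ha y ⟨q, hq.2⟩)
    refine ⟨R, Subtype.ext (funext fun p => ?_)⟩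
    show X.presheaf.germ V p.1 p.2 R • s.1 ⟨p.1, hV p.2⟩ = f.1 p
    refine Eq.trans ?_ (ha p ⟨p.1, hA p⟩).symm
    refine congrArg (· • s.1 ⟨p.1, hV p.2⟩) ?_
    refine (X.presheaf.germ_res_apply (k p) p.1 (hA p) R).symm.trans ?_
    exact congrArg (X.presheaf.germ (A p) p.1 (hA p)) (hR p)

/-- The generator on `V i`. -/
noncomputable def e (i : G.ι) : Γ(G.mod, G.V i) :=
  ⟨fun p => G.E i p.1, fun p => ⟨G.V i, p.2, 𝟙 _,
    Or.inr ⟨i, le_rfl, 1, fun q => by rw [map_one, one_smul]; rfl⟩⟩⟩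

theorem isGen_e (i : G.ι) : Twist.IsGen G.mod (G.V i) (G.e i) :=
  G.isGen_of (G.e i) (fun p => G.germ_inj p.2) fun _ hW _ hf => isM_of_pre hf hW

/-- A section of the module as a section of the glued module. -/
noncomputable def ofN {W : X.Opens} (hW : W ≤ G.U) (n : Γ(G.P, W)) : Γ(G.mod, W) :=
  ⟨fun p => (G.P.presheaf.germ W p.1 p.2 n, 0), fun p => ⟨W, p.2, 𝟙 _, Or.inl ⟨hW, n, fun _ => rfl⟩⟩⟩

theorem isGen_ofN {D : X.Opens} (hD : D ≤ G.U) {n : Γ(G.P, D)} (hn : Twist.IsGen G.P D n) :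
    Twist.IsGen G.mod D (G.ofN hD n) := by
  refine G.isGen_of _ (fun p c c' h => (hn.stalk p.2).1 (congrArg Prod.fst h)) fun W hW f hf => ?_
  obtain ⟨m, hm⟩ := isN_of_pre hf (hW.trans hD)
  obtain ⟨a, ha⟩ := (hn W hW).2 m
  refine ⟨a, fun p => ?_⟩
  rw [hm p, ← ha, germ_smul, germ_mres]
  exact Prod.ext rfl (smul_zero _).symm

/-- The glued module is invertible. -/
theorem isInvertible : PicF.IsInvertible G.mod := fun x => by
  rcases G.cov x with h | ⟨i, h⟩
  · obtain ⟨D, n, hx, hD, hn⟩ := G.hP x h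
    exact ⟨D, hx, Twist.nonempty_restrict_iso _ _ _ (G.isGen_ofN hD hn)⟩
  · exact ⟨G.V i, h, Twist.nonempty_restrict_iso _ _ _ (G.isGen_e i)⟩

theorem image_le (W : (G.U : Scheme.{u}).Opens) : G.U.ι ''ᵁ W ≤ G.U := by
  rintro x ⟨z, -, rfl⟩
  exact z.2

/-- The comparison on `U`. -/
noncomputable def toMod : G.P.restrict G.U.ι ⟶ G.mod.restrict G.U.ι :=
  ⟨PresheafOfModules.homMk (M₁ := (G.P.restrict G.U.ι).val) (M₂ := (G.mod.restrict G.U.ι).val)
    { app := fun W => AddCommGrpCat.ofHom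
        { toFun := fun n => G.ofN (G.image_le W.unop) n
          map_zero' := Subtype.ext (funext fun p => Prod.ext (map_zero _) rfl)
          map_add' := fun a b => Subtype.ext (funext fun p => Prod.ext (map_add _ _ _) (add_zero _).symm) }
      naturality := fun {W W'} k => by
        ext n
        refine Subtype.ext (funext fun p => Prod.ext ?_ rfl)
        exact TopCat.Presheaf.germ_res_apply' G.P.presheaf _ p.1 p.2 _ }
    (fun W r n => by
      refine Subtype.ext (funext fun p => Prod.ext ?_ (smul_zero _).symm)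
      exact germ_smul G.P p.2 _ _)⟩

theorem isIso_toMod : IsIso G.toMod := by
  refine Twist.isIso_of_bijective_app _ fun W => ⟨fun a b h => ?_, fun f => ?_⟩
  · refine TopCat.Presheaf.section_ext ⟨G.P.presheaf, G.P.isSheaf⟩ (G.U.ι ''ᵁ W) a b fun x hx => ?_
    exact congrArg (fun m : Γ(G.mod, G.U.ι ''ᵁ W) => (m.1 ⟨x, hx⟩).1) h
  · let f' : Γ(G.mod, G.U.ι ''ᵁ W) := f
    have hloc : ∀ p : (G.U.ι ''ᵁ W : X.Opens), ∃ (A : X.Opens) (_ : p.1 ∈ A) (k : A ⟶ G.U.ι ''ᵁ W),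
        G.IsN A fun q => f'.1 ⟨q.1, k.le q.2⟩ := fun p => by
      obtain ⟨A, hA, k, h⟩ := f'.2 p
      exact ⟨A, hA, k, isN_of_pre h (k.le.trans (G.image_le W))⟩
    obtain ⟨n, hn, -⟩ := Curve17.existsUnique_of_germPred G.P (fun p => (f'.1 p).1) fun p => by
      obtain ⟨A, hA, k, n, hn⟩ := hloc p
      exact ⟨A, hA, k, n, fun q => congrArg Prod.fst (hn q)⟩
    refine ⟨n, Subtype.ext (funext fun p => Prod.ext (hn p) ?_)⟩
    obtain ⟨A, hA, k, m, hm⟩ := hloc p
    exact (congrArg Prod.snd (hm ⟨p.1, hA⟩)).symm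

theorem nonempty_restrict_iso : Nonempty (G.mod.restrict G.U.ι ≅ G.P.restrict G.U.ι) :=
  haveI := G.isIso_toMod
  ⟨(asIso G.toMod).symm⟩

end Glue

end Groth.Agent.Pic18
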