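import Groth.Agent.Lib.Twist.Gen
import Groth.Agent.Lib.Curve17.ExtendInvMain

/-!
# Affine neighbourhoods of an isolated point of the complement of a retrocompact open
-/

set_option autoImplicit false
set_option linter.style.haveILetI false
universe u

open CategoryTheory AlgebraicGeometry TopologicalSpace Opposite IsLocalRing

namespace Groth.Agent.Pic18

open Groth.Agent.M1

variable {X : Scheme.{u}}

/-- A generization lies in a basic open iff the function is outside the prime. -/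
theorem fromSpecStalk_mem_basicOpen_iff {x : X} {V : X.Opens} (hx : x ∈ V) (f : Γ(X, V))
    (q : Spec (X.presheaf.stalk x)) :
    X.fromSpecStalk x q ∈ X.basicOpen f ↔ X.presheaf.germ V x hx f ∉ q.asIdeal := by
  obtain ⟨_, ⟨A : X.Opens, hA, rfl⟩, hxA, hAV⟩ :=
    X.isBasis_affineOpens.exists_subset_of_mem_open hx V.2
  have hq : X.fromSpecStalk x q ∈ A := by
    have : X.fromSpecStalk x q ⤳ x := (Scheme.range_fromSpecStalk (x := x)).subset ⟨q, rfl⟩
    exact this.mem_open A.2 hxA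
  have h1 : X.fromSpecStalk x q ∈ X.basicOpen f ↔
      X.fromSpecStalk x q ∈ X.basicOpen (ores (show A ≤ V from hAV) f) := by
    rw [Scheme.basicOpen_res]
    exact ⟨fun h => ⟨hq, h⟩, fun h => h.2⟩
  rw [h1, ← hA.fromSpecStalk_eq_fromSpecStalk hxA, IsAffineOpen.fromSpecStalk, Scheme.Hom.comp_apply,
    ← Scheme.Hom.mem_preimage, hA.fromSpec_preimage_basicOpen]
  show X.presheaf.germ A x hxA (ores hAV f) ∉ q.asIdeal ↔ _
  rw [show X.presheaf.germ A x hxA (ores hAV f) = X.presheaf.germ V x hx f from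
    X.presheaf.germ_res_apply _ _ _ _]

theorem isMax_or_min {R : Type u} [CommRing R] [IsLocalRing R] (hd : ringKrullDim R ≤ 1) (q : Ideal R)
    [hq : q.IsPrime] : q = maximalIdeal R ∨ q ∈ minimalPrimes R := by
  haveI : Ring.KrullDimLE 1 R := Ring.krullDimLE_iff.2 hd
  rcases Ring.krullDimLE_one_iff.1 inferInstance q hq with h | h
  · exact Or.inr h
  · exact Or.inl (IsLocalRing.eq_maximalIdeal h)

theorem finite_spec {R : Type u} [CommRing R] [IsLocalRing R] [IsNoetherianRing R] (hd : ringKrullDim R ≤ 1) :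
    Finite (PrimeSpectrum R) := by
  have h : ((minimalPrimes R) ∪ {maximalIdeal R}).Finite :=
    (minimalPrimes.finite_of_isNoetherianRing R).union (Set.finite_singleton _)
  haveI := h.to_subtype
  refine Finite.of_injective (fun q : PrimeSpectrum R =>
    (⟨q.asIdeal, (isMax_or_min hd q.asIdeal).elim Or.inr Or.inl⟩ :
      ((minimalPrimes R) ∪ {maximalIdeal R} : Set (Ideal R)))) fun a b h => ?_
  exact PrimeSpectrum.ext (congrArg Subtype.val h)

variable (U : X.Opens)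

theorem exists_open_inter_compl (hdisc : DiscreteTopology ↥((U : Set X)ᶜ)) {x : X} (hx : x ∉ U) :
    ∃ A : X.Opens, x ∈ A ∧ ∀ z ∈ A, z ∉ U → z = x := by
  obtain ⟨A, hA, hA'⟩ := isOpen_induced_iff.1
    (isOpen_discrete ({(⟨x, hx⟩ : ↥((U : Set X)ᶜ))} : Set ↥((U : Set X)ᶜ)))
  refine ⟨⟨A, hA⟩, ?_, fun z hz hzU => ?_⟩
  · show (⟨x, hx⟩ : ↥((U : Set X)ᶜ)) ∈ Subtype.val ⁻¹' A
    rw [hA']
    exact rfl
  · have : (⟨z, hzU⟩ : ↥((U : Set X)ᶜ)) ∈ Subtype.val ⁻¹' A := hz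
    rw [hA'] at this
    exact congrArg Subtype.val this

theorem generization_mem (hdisc : DiscreteTopology ↥((U : Set X)ᶜ)) {x η : X} (hx : x ∉ U) (h : η ⤳ x)
    (hne : η ≠ x) : η ∈ U := by
  obtain ⟨A, hxA, hA⟩ := exists_open_inter_compl U hdisc hx
  by_contra hη
  exact hne (hA η (h.mem_open A.2 hxA) hη)

variable (hdisc : DiscreteTopology ↥((U : Set X)ᶜ)) [QuasiCompact U.ι] {x : X} (hx : x ∉ U)
  [IsNoetherianRing (X.presheaf.stalk x)] (hd : ringKrullDim (X.presheaf.stalk x) ≤ 1)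

include hdisc hx hd in
/-- An affine neighbourhood on which `U` is a basic open inside a given open containing the punctured
spectrum of the local ring. -/
theorem exists_chart (W : X.Opens) (hW : ∀ η, η ⤳ x → η ≠ x → η ∈ W) :
    ∃ (V : X.Opens) (f : Γ(X, V)), IsAffineOpen V ∧ x ∈ V ∧ (∀ z ∈ V, z ∉ U → z = x) ∧
      V ⊓ U = X.basicOpen f ∧ X.basicOpen f ≤ W := by
  obtain ⟨A₀, hxA₀, hA₀⟩ := exists_open_inter_compl U hdisc hx
  obtain ⟨_, ⟨A : X.Opens, hA, rfl⟩, hxA, hAA₀⟩ :=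
    X.isBasis_affineOpens.exists_subset_of_mem_open hxA₀ A₀.2
  haveI := finite_spec hd
  let R := X.presheaf.stalk x
  let φ : Γ(X, A) →+* R := (X.presheaf.germ A x hxA).hom
  let F : Set (PrimeSpectrum R) := {q | q ≠ IsLocalRing.closedPoint R}
  let pt : PrimeSpectrum R → X := fun q => X.fromSpecStalk x q
  have hpt : ∀ q ∈ F, pt q ∈ A ⊓ U ⊓ W := by
    intro q hq
    have hs : pt q ⤳ x := (Scheme.range_fromSpecStalk (x := x)).subset ⟨q, rfl⟩
    have hne : pt q ≠ x := fun h => hq ((X.fromSpecStalk x).isEmbedding.injective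
      (h.trans Scheme.fromSpecStalk_closedPoint.symm))
    exact ⟨⟨hs.mem_open A.2 hxA, generization_mem U hdisc hx hs hne⟩, hW _ hs hne⟩
  choose! a ha hqa using fun q (hq : q ∈ F) =>
    hA.exists_basicOpen_le (V := A ⊓ U ⊓ W) ⟨pt q, hpt q hq⟩ (hpt q hq).1.1
  -- prime avoidance
  obtain ⟨f, hfI, hfF⟩ : ∃ f ∈ Ideal.span (a '' F), ∀ q ∈ F, φ f ∉ q.asIdeal := by
    by_contra hcon
    push Not at hcon
    have hsub : ((Ideal.span (a '' F) : Ideal Γ(X, A)) : Set Γ(X, A)) ⊆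
        ⋃ q ∈ F, ((q.asIdeal.comap φ : Ideal Γ(X, A)) : Set Γ(X, A)) := fun f hf => by
      obtain ⟨q, hq, h⟩ := hcon f hf
      exact Set.mem_biUnion hq h
    obtain ⟨q, hq, hle⟩ := (Ideal.subset_union_prime_finite (Set.toFinite F)
      (f := fun q : PrimeSpectrum R => q.asIdeal.comap φ) (IsLocalRing.closedPoint R)
      (IsLocalRing.closedPoint R) fun q _ _ _ => inferInstance).1 hsub
    exact (fromSpecStalk_mem_basicOpen_iff hxA (a q) q).1 (hqa q hq)
      (hle (Ideal.subset_span ⟨q, hq, rfl⟩))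
  have hfle : X.basicOpen f ≤ A ⊓ U ⊓ W := by
    intro z hz
    have hzA : z ∈ A := X.basicOpen_le f hz
    rw [X.mem_basicOpen f z hzA] at hz
    by_contra hzW
    have hle : Ideal.span (a '' F) ≤
        (maximalIdeal (X.presheaf.stalk z)).comap (X.presheaf.germ A z hzA).hom := by
      rw [Ideal.span_le]
      rintro _ ⟨q, hq, rfl⟩ hu
      exact hzW (ha q hq ((X.mem_basicOpen (a q) z hzA).2 hu))
    exact hle hfI hz
  -- comparison with the basic opens covering `A ⊓ U`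
  let H := {h : Γ(X, A) // X.basicOpen h ≤ U}
  have hcompact : IsCompact ((A ⊓ U : X.Opens) : Set X) := by
    have h := (U.ι.isCompact_preimage hA.isCompact).image U.ι.continuous
    rwa [Scheme.Hom.coe_preimage, Set.image_preimage_eq_inter_range, Scheme.Opens.range_ι] at h
  obtain ⟨t, ht⟩ := hcompact.elim_finite_subcover (fun h : H => (X.basicOpen h.1 : Set X))
    (fun h => (X.basicOpen h.1).2) fun z hz => by
      obtain ⟨h, hle, hzh⟩ := hA.exists_basicOpen_le (V := U) ⟨z, hz.2⟩ hz.1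
      exact Set.mem_iUnion.2 ⟨⟨h, hle⟩, hzh⟩
  have hnear : ∀ h : H, ∀ᶠ z in nhds x, z ∈ X.basicOpen h.1 → z ∈ X.basicOpen f := by
    intro h
    have hrad : φ h.1 ∈ (Ideal.span {φ f}).radical := by
      rw [Ideal.radical_eq_sInf, Submodule.mem_sInf]
      rintro P ⟨hPf, hP⟩
      have hmem : φ f ∈ P := hPf (Ideal.mem_span_singleton_self _)
      have hcl : (⟨P, hP⟩ : PrimeSpectrum R) = IsLocalRing.closedPoint R :=
        by_contra fun hne => hfF ⟨P, hP⟩ hne hmem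
      have e : P = maximalIdeal R := congrArg PrimeSpectrum.asIdeal hcl
      rw [e]
      exact fun hu => hx (h.2 ((X.mem_basicOpen h.1 x hxA).2 hu))
    obtain ⟨n, hn⟩ := hrad
    obtain ⟨c, hc⟩ := Ideal.mem_span_singleton'.1 hn
    obtain ⟨B, hxB, r, hr⟩ := X.presheaf.exists_germ_eq c
    have hxAB : x ∈ A ⊓ B := ⟨hxA, hxB⟩
    have e : X.presheaf.germ (A ⊓ B) x hxAB (ores (inf_le_left : A ⊓ B ≤ A) h.1 ^ n) =
        X.presheaf.germ (A ⊓ B) x hxAB
          (ores (inf_le_right : A ⊓ B ≤ B) r * ores (inf_le_left : A ⊓ B ≤ A) f) := by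
      rw [map_pow, map_mul, X.presheaf.germ_res_apply, X.presheaf.germ_res_apply,
        X.presheaf.germ_res_apply, hr]
      exact hc.symm
    obtain ⟨Z, hxZ, i₁, i₂, hz⟩ := X.presheaf.germ_eq x hxAB hxAB _ _ e
    refine Filter.eventually_of_mem (Z.2.mem_nhds hxZ) fun z (hzZ : z ∈ Z) hzh => ?_
    have hzAB : z ∈ A ⊓ B := i₁.le hzZ
    have h2 := congrArg (X.presheaf.germ Z z hzZ) hz
    simp only [ores, TopCat.Presheaf.germ_res_apply, map_pow, map_mul] at h2
    rw [X.mem_basicOpen h.1 z hzAB.1] at hzh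
    rw [X.mem_basicOpen f z hzAB.1]
    exact isUnit_of_mul_isUnit_right (h2 ▸ hzh.pow n)
  obtain ⟨O, hO, hOo, hxO⟩ := eventually_nhds_iff.1 ((t.eventually_all).2 fun h _ => hnear h)
  obtain ⟨_, ⟨V : X.Opens, hV, rfl⟩, hxV, hVO⟩ :=
    X.isBasis_affineOpens.exists_subset_of_mem_open (show x ∈ O ∩ A from ⟨hxO, hxA⟩) (hOo.inter A.2)
  have hVA : V ≤ A := fun z hz => (hVO hz).2
  refine ⟨V, ores hVA f, hV, hxV, fun z hz => hA₀ z (hAA₀ (hVA hz)), ?_, ?_⟩
  · rw [Scheme.basicOpen_res]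
    ext z
    constructor
    · rintro ⟨hzV, hzU⟩
      obtain ⟨h, hh, hzh⟩ := Set.mem_iUnion₂.1 (ht ⟨hVA hzV, hzU⟩)
      exact ⟨hzV, hO z (hVO hzV).1 h hh hzh⟩
    · rintro ⟨hzV, hzf⟩
      exact ⟨hzV, (hfle hzf).1.2⟩
  · rw [Scheme.basicOpen_res]
    exact inf_le_right.trans (hfle.trans inf_le_right)

include hdisc hx hd in
omit [QuasiCompact U.ι] in
/-- An invertible module has a generator near the punctured spectrum of the local ring. -/
theorem exists_gen_nhds (P : X.Modules)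
    (hP : ∀ p ∈ U, ∃ (D : X.Opens) (n : Γ(P, D)), p ∈ D ∧ D ≤ U ∧ Twist.IsGen P D n) :
    ∃ (W : X.Opens) (g : Γ(P, W)), Twist.IsGen P W g ∧ ∀ η, η ⤳ x → η ≠ x → η ∈ W := by
  classical
  haveI := finite_spec hd
  let R := X.presheaf.stalk x
  let F := {q : PrimeSpectrum R // q ≠ IsLocalRing.closedPoint R}
  haveI : Fintype F := Fintype.ofFinite _
  have hmin : ∀ q : F, q.1.asIdeal ∈ minimalPrimes R := fun q =>
    (isMax_or_min hd q.1.asIdeal).resolve_left fun h => q.2 (PrimeSpectrum.ext h)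
  have hsep : ∀ q q' : F, q' ≠ q → ∃ b ∈ q'.1.asIdeal, b ∉ q.1.asIdeal := by
    intro q q' hne
    by_contra hcon
    push Not at hcon
    exact hne (Subtype.ext (PrimeSpectrum.ext
      (le_antisymm hcon ((hmin q).2 ⟨q'.1.isPrime, bot_le⟩ hcon))))
  choose b hb hb' using hsep
  let e : F → R := fun q => ∏ q' : {q' : F // q' ≠ q}, b q q'.1 q'.2
  have he : ∀ q : F, e q ∉ q.1.asIdeal := fun q h => by
    obtain ⟨q', -, hq'⟩ := (q.1.isPrime.prod_mem_iff).1 h
    exact hb' q q'.1 q'.2 hq'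
  have he' : ∀ q q' : F, q' ≠ q → e q ∈ q'.1.asIdeal := fun q q' hne =>
    Ideal.mem_of_dvd _ (Finset.dvd_prod_of_mem (fun c : {q' : F // q' ≠ q} => b q c.1 c.2)
      (Finset.mem_univ (⟨q', hne⟩ : {q' : F // q' ≠ q}))) (hb q q' hne)
  have hnil : ∀ q q' : F, q' ≠ q → IsNilpotent (e q * e q') := by
    intro q q' hne
    rw [nilpotent_iff_mem_prime]
    intro P hP'
    by_cases h : (⟨P, hP'⟩ : PrimeSpectrum R) = IsLocalRing.closedPoint R
    · rw [show P = maximalIdeal R from congrArg PrimeSpectrum.asIdeal h]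
      exact Ideal.mul_mem_right _ _ (IsLocalRing.le_maximalIdeal q'.1.isPrime.ne_top (he' q q' hne))
    · let p : F := ⟨⟨P, hP'⟩, h⟩
      by_cases hp : p = q
      · exact Ideal.mul_mem_left _ _ (show e q' ∈ p.1.asIdeal from he' q' p (hp ▸ hne.symm))
      · exact Ideal.mul_mem_right _ _ (show e q ∈ p.1.asIdeal from he' q p hp)
  choose O hxO s hs using fun q => X.presheaf.exists_germ_eq (e q)
  have hzero : ∀ c : {c : F × F // c.1 ≠ c.2}, ∀ᶠ z in nhds x,
      ¬ (z ∈ X.basicOpen (s c.1.1) ∧ z ∈ X.basicOpen (s c.1.2)) := by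
    rintro ⟨⟨q, q'⟩, hne⟩
    obtain ⟨n, hn⟩ := hnil q q' (Ne.symm hne)
    have hxC : x ∈ O q ⊓ O q' := ⟨hxO q, hxO q'⟩
    have e0 : X.presheaf.germ (O q ⊓ O q') x hxC
        ((ores (inf_le_left : O q ⊓ O q' ≤ O q) (s q) * ores (inf_le_right : O q ⊓ O q' ≤ O q') (s q')) ^ n) =
        X.presheaf.germ (O q ⊓ O q') x hxC 0 := by
      rw [map_pow, map_mul, map_zero, X.presheaf.germ_res_apply, X.presheaf.germ_res_apply, hs, hs]
      exact hn
    obtain ⟨Z, hxZ, i₁, i₂, hz⟩ := X.presheaf.germ_eq x hxC hxC _ _ e0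
    refine Filter.eventually_of_mem (Z.2.mem_nhds hxZ) fun z (hzZ : z ∈ Z) hzs => ?_
    have hzC : z ∈ O q ⊓ O q' := i₁.le hzZ
    have h2 := congrArg (X.presheaf.germ Z z hzZ) hz
    rw [X.presheaf.germ_res_apply, X.presheaf.germ_res_apply, map_pow, map_mul, map_zero,
      X.presheaf.germ_res_apply, X.presheaf.germ_res_apply] at h2
    rw [X.mem_basicOpen _ z hzC.1, X.mem_basicOpen _ z hzC.2] at hzs
    exact not_isUnit_zero (h2 ▸ (hzs.1.mul hzs.2).pow n)
  obtain ⟨Z, hZ, hZo, hxZ⟩ := eventually_nhds_iff.1 (Filter.eventually_all.2 hzero)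
  have hpt : ∀ q : F, X.fromSpecStalk x q.1 ∈ U := fun q =>
    generization_mem U hdisc hx ((Scheme.range_fromSpecStalk (x := x)).subset ⟨q.1, rfl⟩)
      fun h => q.2 ((X.fromSpecStalk x).isEmbedding.injective (h.trans Scheme.fromSpecStalk_closedPoint.symm))
  choose D n hD hDU hn using fun q : F => hP _ (hpt q)
  let B : F → X.Opens := fun q => X.basicOpen (s q) ⊓ ⟨Z, hZo⟩ ⊓ D q
  obtain ⟨g, hg, -⟩ := TopCat.Sheaf.existsUnique_gluing' ⟨P.presheaf, P.isSheaf⟩ B (⨆ q, B q)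
    (fun q => homOfLE (le_iSup B q)) le_rfl (fun q => mres P (inf_le_right : B q ≤ D q) (n q)) fun q q' => by
      by_cases hqq : q = q'
      · subst hqq
        rfl
      · haveI := Curve17.subsingleton_sections_of_empty P (B q ⊓ B q') fun z hz =>
          hZ z hz.1.1.2 ⟨(q, q'), hqq⟩ ⟨hz.1.1.1, hz.2.1.1⟩
        exact Subsingleton.elim (α := Γ(P, B q ⊓ B q')) _ _
  refine ⟨⨆ q, B q, g, Twist.isGen_of_stalk fun z hz => ?_, fun η hη hne => ?_⟩
  · obtain ⟨q, hzq⟩ := Opens.mem_iSup.1 hz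
    have e1 : (P.presheaf.germ (⨆ q, B q) z hz g : P.presheaf.stalk z) =
        P.presheaf.germ (D q) z hzq.2 (n q) := by
      rw [← P.presheaf.germ_res_apply (homOfLE (le_iSup B q)) z hzq]
      exact (congrArg (P.presheaf.germ (B q) z hzq) (hg q)).trans (germ_mres P _ _ _)
    rw [e1]
    exact (hn q).stalk hzq.2
  · obtain ⟨q, rfl⟩ := (Scheme.range_fromSpecStalk (x := x)).symm.subset (show η ∈ {y | y ⤳ x} from hη)
    have hqF : q ≠ IsLocalRing.closedPoint R := fun h =>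
      hne ((congrArg (X.fromSpecStalk x) h).trans Scheme.fromSpecStalk_closedPoint)
    refine Opens.mem_iSup.2 ⟨⟨q, hqF⟩, ⟨?_, hη.mem_open hZo hxZ⟩, hD ⟨q, hqF⟩⟩
    refine (fromSpecStalk_mem_basicOpen_iff (hxO _) (s ⟨q, hqF⟩) q).2 ?_
    rw [hs]
    exact he ⟨q, hqF⟩

end Groth.Agent.Pic18
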