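import Groth.Agent.Lib.Pic18.Glue
import Groth.Agent.Lib.Twist.Gen
import Groth.Agent.Lib.TensorMod.PullStalk
import Groth.Agent.Lib.PicDesc21.Frame

/-!
# Pullbacks of glued modules
-/

set_option autoImplicit false
set_option linter.style.haveILetI false
universe u

open CategoryTheory AlgebraicGeometry TopologicalSpace Opposite

namespace Groth.Agent.Pic18

open Groth.Agent.M1

variable {X Y : Scheme.{u}} (f : Y ⟶ X) {M : X.Modules} {L : Y.Modules}

/-- A module with generators pulls back to a module having generators with the same transition functions. -/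
theorem pullback_iso_of_gens {κ : Type u} (U : κ → X.Opens) (hcov : ⨆ i, U i = ⊤) (p : ∀ i, Γ(M, U i))
    (hp : ∀ i, Twist.IsGen M (U i) (p i)) (q : ∀ i, Γ(L, f ⁻¹ᵁ U i))
    (hq : ∀ i, Twist.IsGen L (f ⁻¹ᵁ U i) (q i))
    (hc : ∀ i j (c : Γ(X, U i ⊓ U j)), mres M inf_le_right (p j) = c • mres M inf_le_left (p i) →
      mres L (f.preimage_mono inf_le_right) (q j) =
        f.app (U i ⊓ U j) c • mres L (f.preimage_mono inf_le_left) (q i)) :
    Nonempty ((Scheme.Modules.pullback f).obj M ≅ L) := by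
  have hcov' : ⨆ i, f ⁻¹ᵁ U i = ⊤ := eq_top_iff.2 fun y _ => by
    obtain ⟨i, hi⟩ := Opens.mem_iSup.1 (hcov.symm ▸ trivial : f y ∈ ⨆ i, U i)
    exact Opens.mem_iSup.2 ⟨i, hi⟩
  obtain ⟨e, -⟩ := Twist.exists_iso_of_gen (fun i => f ⁻¹ᵁ U i) hcov' (fun i => M2.pullSec f M (p i)) q
    (fun i => (hp i).pullback f) hq fun i j V hi hj t ht => by
      obtain ⟨c, hce⟩ := (hp i (U i ⊓ U j) inf_le_left).2 (mres M inf_le_right (p j))
      have hV : V ≤ f ⁻¹ᵁ (U i ⊓ U j) := le_inf hi hj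
      have h1 : M2.pullSec f M (mres M inf_le_right (p j)) =
          f.app (U i ⊓ U j) c • M2.pullSec f M (mres M (inf_le_left : U i ⊓ U j ≤ U i) (p i)) := by
        rw [← hce]
        exact M2.pullSec_smul f M c _
      rw [PicDesc21.pullSec_mres, PicDesc21.pullSec_mres] at h1
      have h2 := congrArg (mres _ hV) h1
      rw [mres_smul, mres_mres, mres_mres] at h2
      have ht' : t = ores hV (f.app (U i ⊓ U j) c) := ((hp i).pullback f V hi).1 (ht.symm.trans h2)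
      have h3 := congrArg (mres L hV) (hc i j c hce.symm)
      rw [mres_smul, mres_mres, mres_mres] at h3
      rw [ht']
      exact h3
  exact ⟨e⟩

namespace Glue

variable (G : Glue X)

theorem ofN_injective {W : X.Opens} (hW : W ≤ G.U) : Function.Injective (G.ofN hW) := fun a b h =>
  TopCat.Presheaf.section_ext ⟨G.P.presheaf, G.P.isSheaf⟩ W a b fun x hx =>
    congrArg (fun m : Γ(G.mod, W) => (m.1 ⟨x, hx⟩).1) h

theorem mres_ofN {W W' : X.Opens} (hW : W ≤ G.U) (h : W' ≤ W) (n : Γ(G.P, W)) :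
    mres G.mod h (G.ofN hW n) = G.ofN (h.trans hW) (mres G.P h n) :=
  Subtype.ext (funext fun p => Prod.ext (germ_mres G.P h p.2 n).symm rfl)

theorem mres_e {i : G.ι} {W : X.Opens} (h : W ≤ G.V i) (hW : W ≤ G.U) :
    mres G.mod h (G.e i) = G.ofN hW (mres G.P (le_inf h hW) (G.g i)) :=
  Subtype.ext (funext fun p => (G.E_pos (i := i) ⟨h p.2, hW p.2⟩).trans
    (Prod.ext (germ_mres G.P (le_inf h hW) p.2 (G.g i)).symm rfl))

theorem smul_ofN {W : X.Opens} (hW : W ≤ G.U) (c : Γ(X, W)) (n : Γ(G.P, W)) :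
    c • G.ofN hW n = G.ofN hW (c • n) :=
  Subtype.ext (funext fun p => Prod.ext (germ_smul G.P p.2 c n).symm (smul_zero _))

/-- The glued module pulls back to `L`, given compatible maps on the sections over `U`. -/
theorem pullback_iso' (ψ : ∀ W : X.Opens, W ≤ G.U → Γ(G.P, W) → Γ(L, f ⁻¹ᵁ W))
    (hres : ∀ (W W' : X.Opens) (hW : W ≤ G.U) (h : W' ≤ W) (n : Γ(G.P, W)),
      ψ W' (h.trans hW) (mres G.P h n) = mres L (f.preimage_mono h) (ψ W hW n))
    (hsmul : ∀ (W : X.Opens) (hW : W ≤ G.U) (c : Γ(X, W)) (n : Γ(G.P, W)),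
      ψ W hW (c • n) = f.app W c • ψ W hW n)
    (hgen : ∀ p ∈ G.U, ∃ (D : X.Opens) (hD : D ≤ G.U) (n : Γ(G.P, D)), p ∈ D ∧ Twist.IsGen G.P D n ∧
      Twist.IsGen L (f ⁻¹ᵁ D) (ψ D hD n))
    (l : ∀ i, Γ(L, f ⁻¹ᵁ G.V i)) (hl : ∀ i, Twist.IsGen L (f ⁻¹ᵁ G.V i) (l i))
    (hφ : ∀ i, ψ (G.V i ⊓ G.U) inf_le_right (G.g i) = mres L (f.preimage_mono inf_le_left) (l i)) :
    Nonempty ((Scheme.Modules.pullback f).obj G.mod ≅ L) := by
  choose D hDU n hD hn hφn using hgen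
  let κ := {p : X // p ∈ G.U} ⊕ G.ι
  let W : κ → X.Opens := Sum.elim (fun p => D p.1 p.2) G.V
  let p : ∀ k, Γ(G.mod, W k) := fun k => match k with
    | Sum.inl x => G.ofN (hDU x.1 x.2) (n x.1 x.2)
    | Sum.inr i => G.e i
  let q : ∀ k, Γ(L, f ⁻¹ᵁ W k) := fun k => match k with
    | Sum.inl x => ψ (D x.1 x.2) (hDU x.1 x.2) (n x.1 x.2)
    | Sum.inr i => l i
  have key : ∀ (k : κ) (Z : X.Opens) (hZ : Z ≤ W k) (hZU : Z ≤ G.U), ∃ m : Γ(G.P, Z),
      mres G.mod hZ (p k) = G.ofN hZU m ∧ mres L (f.preimage_mono hZ) (q k) = ψ Z hZU m := by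
    rintro (x | i) Z hZ hZU
    · exact ⟨mres G.P hZ (n x.1 x.2), G.mres_ofN _ _ _, (hres _ _ (hDU x.1 x.2) hZ (n x.1 x.2)).symm⟩
    · refine ⟨mres G.P (le_inf hZ hZU) (G.g i), G.mres_e hZ hZU, ?_⟩
      refine Eq.trans ?_ (hres _ _ inf_le_right (le_inf hZ hZU) (G.g i)).symm
      refine Eq.trans ?_ (congrArg (mres L (f.preimage_mono (le_inf hZ hZU))) (hφ i)).symm
      exact (mres_mres L (f.preimage_mono inf_le_left) (f.preimage_mono (le_inf hZ hZU)) (l i)).symm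
  refine pullback_iso_of_gens f W (eq_top_iff.2 fun x _ => ?_) p ?_ q ?_ fun i j c hc => ?_
  · rcases G.cov x with h | ⟨i, h⟩
    · exact Opens.mem_iSup.2 ⟨Sum.inl ⟨x, h⟩, hD x h⟩
    · exact Opens.mem_iSup.2 ⟨Sum.inr i, h⟩
  · rintro (x | i)
    · exact G.isGen_ofN _ (hn x.1 x.2)
    · exact G.isGen_e i
  · rintro (x | i)
    · exact hφn x.1 x.2
    · exact hl i
  · by_cases hU : W i ⊓ W j ≤ G.U
    · obtain ⟨mi, hmi, hqi⟩ := key i (W i ⊓ W j) inf_le_left hU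
      obtain ⟨mj, hmj, hqj⟩ := key j (W i ⊓ W j) inf_le_right hU
      rw [hmi, hmj, G.smul_ofN] at hc
      rw [hqi, hqj, G.ofN_injective hU hc, hsmul]
    · rcases i with x | i
      · exact absurd (inf_le_left.trans (hDU x.1 x.2)) hU
      rcases j with x | j
      · exact absurd (inf_le_right.trans (hDU x.1 x.2)) hU
      obtain rfl : i = j := not_not.1 fun h => hU (G.disj i j h)
      have h1 : c = 1 := (G.isGen_e i (W (Sum.inr i) ⊓ W (Sum.inr i)) inf_le_left).1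
        (hc.symm.trans (one_smul Γ(X, W (Sum.inr i) ⊓ W (Sum.inr i)) _).symm)
      subst h1
      rw [map_one, one_smul]

/-- The glued module pulls back to `L`, given a compatible map to the direct image of `L`. -/
theorem pullback_iso (φ : G.P ⟶ (Scheme.Modules.pushforward f).obj L)
    (hgen : ∀ p ∈ G.U, ∃ (D : X.Opens) (n : Γ(G.P, D)), p ∈ D ∧ D ≤ G.U ∧ Twist.IsGen G.P D n ∧
      Twist.IsGen L (f ⁻¹ᵁ D) (φ.app D n))
    (l : ∀ i, Γ(L, f ⁻¹ᵁ G.V i)) (hl : ∀ i, Twist.IsGen L (f ⁻¹ᵁ G.V i) (l i))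
    (hφ : ∀ i, φ.app (G.V i ⊓ G.U) (G.g i) = mres L (f.preimage_mono inf_le_left) (l i)) :
    Nonempty ((Scheme.Modules.pullback f).obj G.mod ≅ L) :=
  G.pullback_iso' f (fun W _ n => φ.app W n) (fun _ _ _ h n => app_mres φ h n)
    (fun _ _ c n => φ.app_smul c n)
    (fun p hp => by
      obtain ⟨D, n, h1, h2, h3, h4⟩ := hgen p hp
      exact ⟨D, h2, n, h1, h3, h4⟩)
    l hl hφ

end Glue

end Groth.Agent.Pic18
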