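import Groth.Agent.Lib.Ample18.Avoid
import Groth.Agent.Lib.Twist.Gen
import Mathlib.AlgebraicGeometry.Morphisms.Finite
import Mathlib.AlgebraicGeometry.Morphisms.QuasiFinite
import Groth.Agent.Lib.Curve17.ExtendInvMain

/-!
# Generators of invertible modules near finite fibres
-/

set_option autoImplicit false
set_option linter.style.haveILetI false
universe u

open CategoryTheory CategoryTheory.Limits AlgebraicGeometry TopologicalSpace Opposite

namespace Groth.Agent.Pic18

open Groth.Agent.M1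

variable {X : Scheme.{u}}

/-- Generators of a restriction are generators. -/
theorem isGen_image {Y : Scheme.{u}} (j : Y ⟶ X) [IsOpenImmersion j] (F : X.Modules) {D : Y.Opens}
    (g : Γ(F.restrict j, D)) (hg : Twist.IsGen (F.restrict j) D g) :
    Twist.IsGen F (j ''ᵁ D) (g : Γ(F, j ''ᵁ D)) := by
  intro V hV
  obtain ⟨W, hW, rfl⟩ : ∃ W : Y.Opens, W ≤ D ∧ j ''ᵁ W = V := by
    refine ⟨j ⁻¹ᵁ V, fun z hz => ?_, ?_⟩
    · obtain ⟨z', hz', h⟩ := hV hz
      exact j.isOpenEmbedding.injective h ▸ hz'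
    · rw [Scheme.Hom.image_preimage_eq_opensRange_inf, inf_eq_right]
      exact fun z hz => ⟨(hV hz).choose, (hV hz).choose_spec.2⟩
  have key : ∀ r : Γ(X, j ''ᵁ W), (r • mres F hV (g : Γ(F, j ''ᵁ D)) : Γ(F, j ''ᵁ W)) =
      ((j.appIso W).hom r : Γ(Y, W)) • mres (F.restrict j) hW g := fun r => by
    show _ = ((j.appIso W).inv ((j.appIso W).hom r) : Γ(X, j ''ᵁ W)) • mres F (Scheme.Hom.image_mono _ hW) g
    rw [Iso.hom_inv_id_apply]
  simp only [key]
  exact (hg W hW).comp ((ConcreteCategory.isIso_iff_bijective (j.appIso W).hom).1 inferInstance)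

/-- An invertible module has a generator near finitely many points of an affine open. -/
theorem exists_gen_finite {A : X.Opens} (hA : IsAffineOpen A) {L : X.Modules} (hL : PicF.IsInvertible L)
    {Z : Set X} (hZ : Z.Finite) (hZA : Z ⊆ A) :
    ∃ (G : X.Opens) (g : Γ(L, G)), Z ⊆ G ∧ G ≤ A ∧ Twist.IsGen L G g := by
  haveI : IsAffine A.toScheme := hA
  have hLA : PicF.IsInvertible (L.restrict A.ι) := Twist.isInvertible_restrict L A.ι fun y => hL _
  obtain ⟨s, -, hZs, -⟩ := Amp.exists_affine_section_finite (X := A.toScheme) hLA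
    (hZ.preimage Subtype.val_injective.injOn : (Subtype.val ⁻¹' Z : Set A).Finite) (W := ⊤)
    fun _ _ => trivial
  refine ⟨A.ι ''ᵁ _, _, fun z hz => ⟨⟨z, hZA hz⟩, hZs hz, rfl⟩, fun z hz => ?_,
    isGen_image A.ι L _ (Amp.isGenerator_genLocus hLA s)⟩
  obtain ⟨y, -, rfl⟩ := hz
  exact y.2

/-- An invertible module is trivial over a neighbourhood of each point, for a finite morphism. -/
theorem exists_gen_over {Y : Scheme.{u}} (f : X ⟶ Y) [IsFinite f] {L : X.Modules} (hL : PicF.IsInvertible L)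
    (y : Y) : ∃ (D : Y.Opens) (l : Γ(L, f ⁻¹ᵁ D)), y ∈ D ∧ Twist.IsGen L (f ⁻¹ᵁ D) l := by
  obtain ⟨D, hD, hyD, -⟩ := exists_isAffineOpen_mem_and_subset (U := (⊤ : Y.Opens)) (x := y) trivial
  obtain ⟨G, g, hG, -, hg⟩ := exists_gen_finite (hD.preimage f) hL (f.finite_preimage_singleton y)
    fun z (hz : f z = y) => show f z ∈ D from hz ▸ hyD
  let C : Set Y := f '' (G : Set X)ᶜ
  have hC : IsClosed C := f.isClosedMap _ G.2.isClosed_compl
  let D' : Y.Opens := ⟨Cᶜ, hC.isOpen_compl⟩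
  have hle : f ⁻¹ᵁ D' ≤ G := fun z hz => not_not.1 fun h => hz ⟨z, h, rfl⟩
  exact ⟨D', mres L hle g, fun ⟨z, hz, e⟩ => hz (hG e), hg.mres hle⟩

end Groth.Agent.Pic18
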