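import Groth.Agent.Lib.Pic18.GluePull
import Groth.Agent.Lib.Pic18.Chart
import Groth.Agent.Lib.Pic18.Semilocal
import Groth.Agent.Lib.AffineFin18.Spread
import Groth.Agent.Lib.VB17.Setup
import Mathlib.AlgebraicGeometry.Morphisms.QuasiCompact

/-!
# Invertible modules along finite birational morphisms of curves
-/

set_option autoImplicit false
set_option linter.style.haveILetI false
universe u

open CategoryTheory CategoryTheory.Limits AlgebraicGeometry TopologicalSpace Opposite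

namespace Groth.Agent.Pic18

open Groth.Agent.M1

variable {X Y : Scheme.{u}}

/-- Below a point with one-dimensional local ring there are no chains of length two. -/
theorem eq_of_specializes {y a b : X} (hd : ringKrullDim (X.presheaf.stalk y) ≤ 1) (ha : a ⤳ y) (hne : a ≠ y)
    (hb : b ⤳ a) : b = a := by
  obtain ⟨q, rfl⟩ := (Scheme.range_fromSpecStalk (x := y)).symm.subset (show a ∈ {z | z ⤳ y} from ha)
  obtain ⟨q', rfl⟩ := (Scheme.range_fromSpecStalk (x := y)).symm.subset (show b ∈ {z | z ⤳ y} from hb.trans ha)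
  have hmin : q.asIdeal ∈ minimalPrimes (X.presheaf.stalk y) := (isMax_or_min hd q.asIdeal).resolve_left fun h =>
    hne ((congrArg (X.fromSpecStalk y) (show q = IsLocalRing.closedPoint _ from PrimeSpectrum.ext h)).trans
      Scheme.fromSpecStalk_closedPoint)
  have hle : q'.asIdeal ≤ q.asIdeal := (PrimeSpectrum.le_iff_specializes q' q).2
    ((X.fromSpecStalk y).isEmbedding.toIsInducing.specializes_iff.1 hb)
  exact congrArg (X.fromSpecStalk y) (PrimeSpectrum.ext (le_antisymm hle (hmin.2 ⟨q'.isPrime, bot_le⟩ hle)))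

/-- The functions of a closed subscheme lift. -/
theorem app_surjective_of_le (f : X ⟶ Y) (V : Y.Opens) (hfV : IsClosedImmersion (f ∣_ V)) {A : Y.Opens}
    (hA : IsAffineOpen A) (hAV : A ≤ V) : Function.Surjective (f.app A) := by
  haveI := hfV
  have e : V.ι ''ᵁ (V.ι ⁻¹ᵁ A) = A := by
    rw [Scheme.Hom.image_preimage_eq_opensRange_inf, Scheme.Opens.opensRange_ι]
    exact inf_eq_right.2 hAV
  have hs := (f ∣_ V).app_surjective (V.ι ⁻¹ᵁ A) (hA.preimage_of_isOpenImmersion V.ι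
    (by rw [Scheme.Opens.opensRange_ι]; exact hAV))
  rw [morphismRestrict_app] at hs
  have hb : Function.Surjective ((X.presheaf.map (eqToHom (image_morphismRestrict_preimage f V (V.ι ⁻¹ᵁ A))).op) ∘
      (f.app (V.ι ''ᵁ (V.ι ⁻¹ᵁ A)))) := hs
  have h3 := hb.of_comp_left ((ConcreteCategory.isIso_iff_bijective _).1
    (inferInstance : IsIso (X.presheaf.map (eqToHom (image_morphismRestrict_preimage f V (V.ι ⁻¹ᵁ A))).op))).1
  rwa [e] at h3

/-- A function which is a unit on a closed subscheme can be corrected at finitely many points to be a unit there. -/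
theorem exists_unit_lift (f : X ⟶ Y) {A : Y.Opens} (hA : IsAffineOpen A) (hAc : IsCompact ((f ⁻¹ᵁ A : X.Opens) : Set X))
    (hclosed : IsClosed (Set.range f ∩ (A : Set Y) ∪ (A : Set Y)ᶜ))
    (w : Γ(Y, A)) (hw : IsUnit (f.app A w)) {F : Set Y} (hF : F.Finite) (hFA : F ⊆ A)
    (hinc : ∀ a ∈ F, ∀ b ∈ F, a ⤳ b → a = b) :
    ∃ w' : Γ(Y, A), f.app A w' = f.app A w ∧ ∀ η ∈ F, η ∈ Y.basicOpen w' := by
  classical
  have hran : ∀ η ∈ F, η ∈ Set.range f → η ∈ Y.basicOpen w := by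
    rintro η hη ⟨x, rfl⟩
    show x ∈ f ⁻¹ᵁ Y.basicOpen w
    rw [Scheme.preimage_basicOpen, X.mem_basicOpen _ x (hFA hη)]
    exact hw.map _
  -- correcting elements
  have he : ∀ η ∈ F, η ∉ Y.basicOpen w → ∃ e : Γ(Y, A), f.app A e = 0 ∧ η ∈ Y.basicOpen e ∧
      ∀ q ∈ F, q ≠ η → q ∉ Y.basicOpen e := by
    intro η hη hηw
    have hnr : η ∉ Set.range f := fun h => hηw (hran η hη h)
    let C : Set Y := (Set.range f ∩ (A : Set Y) ∪ (A : Set Y)ᶜ) ∪ ⋃ q ∈ F \ {η}, closure {q}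
    have hC : IsClosed C := hclosed.union (hF.sdiff.isClosed_biUnion fun _ _ => isClosed_closure)
    have hηC : η ∉ C := by
      rintro ((⟨h, -⟩ | h) | h)
      · exact hnr h
      · exact h (hFA hη)
      · obtain ⟨q, hq, hqη⟩ := Set.mem_iUnion₂.1 h
        exact hq.2 (hinc q hq.1 η hη (specializes_iff_mem_closure.2 hqη))
    obtain ⟨a, ha, hηa⟩ := hA.exists_basicOpen_le (V := ⟨Cᶜ, hC.isOpen_compl⟩) ⟨η, hηC⟩ (hFA hη)
    obtain ⟨n, hn⟩ : IsNilpotent (f.app A a) := by
      rw [Scheme.isNilpotent_iff_basicOpen_eq_bot_of_isCompact hAc, ← Scheme.preimage_basicOpen, eq_bot_iff]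
      intro x hx
      exact absurd (Or.inl (Or.inl ⟨⟨x, rfl⟩, Y.basicOpen_le a hx⟩)) (ha hx)
    refine ⟨a ^ (n + 1), by rw [map_pow, pow_succ, hn, zero_mul], ?_, fun q hq hne hqe => ?_⟩
    · rw [Y.mem_basicOpen _ η (hFA hη), map_pow, isUnit_pow_iff n.succ_ne_zero]
      exact (Y.mem_basicOpen a η (hFA hη)).1 hηa
    · rw [Y.mem_basicOpen _ q (hFA hq), map_pow, isUnit_pow_iff n.succ_ne_zero, ← Y.mem_basicOpen a q (hFA hq)] at hqe
      exact ha hqe (Or.inr (Set.mem_biUnion ⟨hq, hne⟩ (subset_closure rfl)))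
  choose! e he0 heη heq using he
  let B : Finset Y := hF.toFinset.filter fun η => η ∉ Y.basicOpen w
  have hB : ∀ η ∈ B, η ∈ F ∧ η ∉ Y.basicOpen w := fun η h =>
    ⟨hF.mem_toFinset.1 (Finset.mem_filter.1 h).1, (Finset.mem_filter.1 h).2⟩
  refine ⟨w + ∑ η ∈ B, e η, ?_, fun q hq => ?_⟩
  · rw [map_add, map_sum, Finset.sum_eq_zero fun η hη => he0 η (hB η hη).1 (hB η hη).2, add_zero]
  · rw [Y.mem_basicOpen _ q (hFA hq), map_add, map_sum]
    let φ := (Y.presheaf.germ A q (hFA hq)).hom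
    have hm : ∀ η ∈ B, η ≠ q → φ (e η) ∈ IsLocalRing.maximalIdeal (Y.presheaf.stalk q) := fun η hη hne hu =>
      heq η (hB η hη).1 (hB η hη).2 q hq (Ne.symm hne) ((Y.mem_basicOpen _ q (hFA hq)).2 hu)
    by_cases hqw : q ∈ Y.basicOpen w
    · have hs : ∑ η ∈ B, φ (e η) ∈ IsLocalRing.maximalIdeal (Y.presheaf.stalk q) :=
        Ideal.sum_mem _ fun η hη => hm η hη fun h => (hB η hη).2 (h ▸ hqw)
      by_contra hnu
      have h2 := sub_mem ((IsLocalRing.mem_maximalIdeal _).2 hnu) hs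
      rw [add_sub_cancel_right] at h2
      exact h2 ((Y.mem_basicOpen _ q (hFA hq)).1 hqw)
    · have hqB : q ∈ B := Finset.mem_filter.2 ⟨hF.mem_toFinset.2 hq, hqw⟩
      have hw' : φ w ∈ IsLocalRing.maximalIdeal (Y.presheaf.stalk q) := fun hu =>
        hqw ((Y.mem_basicOpen _ q (hFA hq)).2 hu)
      rw [← Finset.add_sum_erase B _ hqB]
      by_contra hnu
      have h2 := sub_mem ((IsLocalRing.mem_maximalIdeal _).2 hnu) (add_mem hw'
        (Ideal.sum_mem _ (fun η (hη : η ∈ B.erase q) =>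
          hm η (Finset.mem_of_mem_erase hη) (Finset.ne_of_mem_erase hη))))
      rw [show ∀ a b c : Y.presheaf.stalk q, a + (b + c) - (a + c) = b from fun a b c => by ring] at h2
      exact h2 ((Y.mem_basicOpen _ q (hFA hq)).1 (heη q hq hqw))

theorem bijective_smul_one {U : X.Opens} (w : Γ(X, U)) (hw : IsUnit w) :
    Twist.IsGen (Coh.structureModule X) U (w : Γ(Coh.structureModule X, U)) := fun W hW => by
  exact IsUnit.isUnit_iff_mulRight_bijective.mp (hw.map (X.presheaf.map (homOfLE hW).op).hom)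

variable (f : X ⟶ Y) [IsFinite f] [IsNoetherian Y] (V : Y.Opens) (L : X.Modules)

/-- A dense open inside `V` over which `L` is trivial. -/
theorem exists_dense_trivial (hV : Dense (V : Set Y)) (hL : PicF.IsInvertible L) :
    ∃ (U : Y.Opens) (g : Γ(L, f ⁻¹ᵁ U)), U ≤ V ∧ Twist.IsGen L (f ⁻¹ᵁ U) g ∧
      ∀ Z ∈ irreducibleComponents (Y : Type u), ∀ η : Y, closure {η} = Z → η ∈ U := by
  classical
  have hfin : (irreducibleComponents (Y : Type u)).Finite := NoetherianSpace.finite_irreducibleComponents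
  haveI := hfin.to_subtype
  choose η hη using fun Z : irreducibleComponents (Y : Type u) =>
    QuasiSober.sober Z.2.1 (isClosed_of_mem_irreducibleComponents _ Z.2)
  choose D l hηD hl using fun Z => exists_gen_over f hL (η Z)
  have hclosed : ∀ Z : irreducibleComponents (Y : Type u),
      IsClosed (⋃ Z' ∈ (irreducibleComponents (Y : Type u) \ {Z.1}), Z') := fun Z =>
    hfin.sdiff.isClosed_biUnion fun W hW => isClosed_of_mem_irreducibleComponents W hW.1
  let B : irreducibleComponents (Y : Type u) → Y.Opens := fun Z =>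
    V ⊓ D Z ⊓ ⟨_, (hclosed Z).isOpen_compl⟩
  have hnot : ∀ Z, η Z ∉ (⋃ Z' ∈ (irreducibleComponents (Y : Type u) \ {Z.1}), Z') := fun Z h => by
    obtain ⟨Z', ⟨hZ', hne⟩, hmem⟩ := Set.mem_iUnion₂.1 h
    have hle : Z.1 ⊆ Z' := (hη Z).symm.le.trans
      (closure_minimal (Set.singleton_subset_iff.2 hmem) (isClosed_of_mem_irreducibleComponents _ hZ'))
    exact hne (le_antisymm (Z.2.2 hZ'.1 hle) hle)
  have hηV : ∀ Z, η Z ∈ V := fun Z => by
    obtain ⟨z, hz, hzV⟩ := hV.exists_mem_open (hclosed Z).isOpen_compl ⟨η Z, hnot Z⟩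
    obtain ⟨W, hW, hzW⟩ : ∃ W ∈ irreducibleComponents (Y : Type u), z ∈ W :=
      ⟨irreducibleComponent z, irreducibleComponent_mem_irreducibleComponents z, mem_irreducibleComponent⟩
    have hWZ : W = Z.1 := by
      by_contra h
      exact hzV (Set.mem_iUnion₂.2 ⟨W, ⟨hW, h⟩, hzW⟩)
    exact ((hη Z).specializes (hWZ ▸ hzW)).mem_open V.2 hz
  have hdisj : ∀ Z Z', Z ≠ Z' → B Z ⊓ B Z' ≤ ⊥ := fun Z Z' hne z hz => by
    have hmem := mem_irreducibleComponent (x := z)
    have h1 : irreducibleComponent z = Z.1 := not_not.1 fun h => hz.1.2 (Set.mem_iUnion₂.2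
      ⟨_, ⟨irreducibleComponent_mem_irreducibleComponents z, h⟩, hmem⟩)
    have h2 : irreducibleComponent z = Z'.1 := not_not.1 fun h => hz.2.2 (Set.mem_iUnion₂.2
      ⟨_, ⟨irreducibleComponent_mem_irreducibleComponents z, h⟩, hmem⟩)
    exact absurd (Subtype.ext (h1.symm.trans h2)) hne
  obtain ⟨g, hg, -⟩ := TopCat.Sheaf.existsUnique_gluing' ⟨L.presheaf, L.isSheaf⟩ (fun Z => f ⁻¹ᵁ B Z)
    (f ⁻¹ᵁ ⨆ Z, B Z) (fun Z => homOfLE (f.preimage_mono (le_iSup B Z)))
    (fun z hz => by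
      obtain ⟨Z, hZ⟩ := Opens.mem_iSup.1 (show f z ∈ ⨆ Z, B Z from hz)
      exact Opens.mem_iSup.2 ⟨Z, hZ⟩)
    (fun Z => mres L (f.preimage_mono (inf_le_left.trans inf_le_right : B Z ≤ D Z)) (l Z)) fun Z Z' => by
      by_cases h : Z = Z'
      · subst h; rfl
      · haveI := Curve17.subsingleton_sections_of_empty L (f ⁻¹ᵁ B Z ⊓ f ⁻¹ᵁ B Z') fun z hz =>
          (hdisj Z Z' h (show f z ∈ B Z ⊓ B Z' from hz)).elim
        exact Subsingleton.elim (α := Γ(L, f ⁻¹ᵁ B Z ⊓ f ⁻¹ᵁ B Z')) _ _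
  refine ⟨⨆ Z, B Z, g, iSup_le fun Z => inf_le_left.trans inf_le_left, Twist.isGen_of_stalk fun z hz => ?_,
    fun Z hZ ξ hξ => Opens.mem_iSup.2 ⟨⟨Z, hZ⟩, ?_⟩⟩
  · obtain ⟨Z, hZ⟩ := Opens.mem_iSup.1 (show f z ∈ ⨆ Z, B Z from hz)
    have hzB : z ∈ f ⁻¹ᵁ B Z := hZ
    have e1 : (L.presheaf.germ (f ⁻¹ᵁ ⨆ Z, B Z) z hz g : L.presheaf.stalk z) =
        L.presheaf.germ (f ⁻¹ᵁ D Z) z hZ.1.2 (l Z) := by
      rw [← L.presheaf.germ_res_apply (homOfLE (f.preimage_mono (le_iSup B Z))) z hzB]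
      exact (congrArg (L.presheaf.germ (f ⁻¹ᵁ B Z) z hzB) (hg Z)).trans (germ_mres L _ _ _)
    rw [e1]
    exact (hl Z).stalk hZ.1.2
  · obtain rfl : ξ = η ⟨Z, hZ⟩ := IsGenericPoint.eq (show IsGenericPoint ξ Z from hξ) (hη ⟨Z, hZ⟩)
    exact ⟨⟨hηV _, hηD _⟩, hnot _⟩

/-- Invertible modules come from the target. -/
theorem exists_pullback_iso (hdim : topologicalKrullDim Y ≤ 1) (hV : Dense (V : Set Y))
    (hfV : IsClosedImmersion (f ∣_ V)) (hL : PicF.IsInvertible L) :
    ∃ N : Y.Modules, PicF.IsInvertible N ∧ Nonempty ((Scheme.Modules.pullback f).obj N ≅ L) := by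
  classical
  obtain ⟨U, g, hUV, hg, hgenU⟩ := exists_dense_trivial f V L hV hL
  have hd : ∀ y : Y, ringKrullDim (Y.presheaf.stalk y) ≤ 1 := fun y =>
    (VB17.ringKrullDim_stalk_le_topologicalKrullDim y).trans hdim
  have hmax : ∀ η : Y, (∀ b, b ⤳ η → b = η) → η ∈ U := fun η h =>
    hgenU _ (AffineFin18.closure_mem_irreducibleComponents h) η rfl
  have hclosedpt : ∀ y : Y, y ∉ U → IsClosed ({y} : Set Y) := fun y hy => by
    refine closure_subset_iff_isClosed.1 fun y' hy' => ?_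
    have hs : y ⤳ y' := specializes_iff_mem_closure.2 hy'
    by_contra hne
    exact hy (hmax y fun b hb => eq_of_specializes (hd y') hs (fun h => hne h.symm) hb)
  haveI hdisc : DiscreteTopology ↥((U : Set Y)ᶜ) := by
    haveI : T1Space ↥((U : Set Y)ᶜ) := ⟨fun x => by
      rw [show ({x} : Set ↥((U : Set Y)ᶜ)) = Subtype.val ⁻¹' {x.1} from Set.ext fun z => Subtype.coe_inj.symm]
      exact (hclosedpt x.1 x.2).preimage continuous_subtype_val⟩
    haveI : Finite ↥((U : Set Y)ᶜ) := by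
      obtain ⟨S, hS, -, hSi, hU⟩ :=
        NoetherianSpace.exists_finite_set_isClosed_irreducible (show IsClosed ((U : Set Y)ᶜ) from U.2.isClosed_compl)
      refine Set.Finite.to_subtype ?_
      rw [hU]
      refine hS.sUnion fun t ht => Set.Subsingleton.finite ?_
      obtain ⟨ξ, hξ⟩ := QuasiSober.sober (hSi t ht).closure isClosed_closure
      have hξU : ξ ∈ (U : Set Y)ᶜ :=
        closure_minimal ((Set.subset_sUnion_of_mem ht).trans hU.symm.le) U.2.isClosed_compl
          (hξ.symm ▸ subset_closure rfl)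
      intro a ha b hb
      have h1 : ∀ z ∈ t, z = ξ := fun z hz => by
        have : z ∈ closure ({ξ} : Set Y) := hξ.symm ▸ subset_closure hz
        rwa [(hclosedpt ξ hξU).closure_eq] at this
      rw [h1 a ha, h1 b hb]
    infer_instance
  haveI : QuasiCompact U.ι := by
    haveI : CompactSpace U.toScheme := isCompact_iff_compactSpace.1 (NoetherianSpace.isCompact _)
    exact quasiCompact_of_compactSpace _
  -- charts at the remaining points
  have hchart : ∀ y : {y : Y // y ∉ U}, ∃ (W : Y.Opens) (l : Γ(L, f ⁻¹ᵁ W)) (w : Γ(Y, W ⊓ U)),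
      y.1 ∈ W ∧ (∀ z ∈ W, z ∉ U → z = y.1) ∧ Twist.IsGen L (f ⁻¹ᵁ W) l ∧ IsUnit w ∧
      f.app (W ⊓ U) w • mres L (f.preimage_mono inf_le_right) g =
        mres L (f.preimage_mono inf_le_left) l := by
    rintro ⟨y, hy⟩
    obtain ⟨D, l, hyD, hl⟩ := exists_gen_over f hL y
    obtain ⟨V₁, h₁, hV₁, hyV₁, -, hV₁U, hh₁⟩ := exists_chart U hdisc hy (hd y) (D ⊓ U) fun η hη hne =>
      ⟨hη.mem_open D.2 hyD, generization_mem U hdisc hy hη hne⟩
    let A := Y.basicOpen h₁
    have hA : IsAffineOpen A := hV₁.basicOpen h₁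
    have hAU : A ≤ U := hh₁.trans inf_le_right
    have hAD : A ≤ D := hh₁.trans inf_le_left
    obtain ⟨c, hc⟩ := (hg (f ⁻¹ᵁ A) (f.preimage_mono hAU)).2 (mres L (f.preimage_mono hAD) l)
    have hcu : IsUnit c := by
      obtain ⟨c', hc'⟩ := (hl (f ⁻¹ᵁ A) (f.preimage_mono hAD)).2 (mres L (f.preimage_mono hAU) g)
      refine IsUnit.of_mul_eq_one c' ((hg (f ⁻¹ᵁ A) (f.preimage_mono hAU)).1 ?_)
      show (c * c') • mres L (f.preimage_mono hAU) g = (1 : Γ(X, f ⁻¹ᵁ A)) • mres L (f.preimage_mono hAU) g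
      rw [one_smul, mul_comm, mul_smul]
      exact (congrArg (c' • ·) hc).trans hc'
    obtain ⟨w, hw⟩ := app_surjective_of_le f V hfV hA (hAU.trans hUV) c
    haveI : Finite ↥(Spec (Y.presheaf.stalk y)) := finite_spec (hd y)
    let F : Set Y := {η | η ⤳ y ∧ η ≠ y}
    have hF : F.Finite := (Set.finite_range (Y.fromSpecStalk y)).subset fun η hη =>
      (Scheme.range_fromSpecStalk (x := y)).symm.subset hη.1
    have hFA : F ⊆ A := fun η hη => by
      show η ∈ Y.basicOpen h₁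
      rw [← hV₁U]
      exact ⟨hη.1.mem_open V₁.2 hyV₁, generization_mem U hdisc hy hη.1 hη.2⟩
    obtain ⟨w', hw', hw'F⟩ := exists_unit_lift f hA (hA.preimage f).isCompact
      (by
        have hcl : IsClosed (Set.range f) := f.isClosedMap.isClosed_range
        rw [Set.inter_union_distrib_right, Set.union_compl_self, Set.inter_univ]
        exact hcl.union A.2.isClosed_compl)
      w (hw ▸ hcu) hF hFA fun a ha b hb hab => eq_of_specializes (hd y) hb.1 hb.2 hab
    obtain ⟨V₂, h₂, -, hyV₂, hV₂y, hV₂U, hh₂⟩ := exists_chart U hdisc hy (hd y) (Y.basicOpen w')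
      fun η hη hne => hw'F η ⟨hη, hne⟩
    have hsub : V₂ ⊓ D ⊓ U ≤ Y.basicOpen w' := (inf_le_inf inf_le_left le_rfl).trans (hV₂U.le.trans hh₂)
    have hsubA : V₂ ⊓ D ⊓ U ≤ A := hsub.trans (Y.basicOpen_le w')
    refine ⟨V₂ ⊓ D, mres L (f.preimage_mono inf_le_right) l, ores hsubA w', ⟨hyV₂, hyD⟩,
      fun z hz => hV₂y z hz.1, hl.mres _, ?_, ?_⟩
    · rw [← ores_ores (Y.basicOpen_le w') hsub]
      exact (show IsUnit (ores (Y.basicOpen_le w') w') from Y.toRingedSpace.isUnit_res_basicOpen w').map _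
    · have hnat : f.app (V₂ ⊓ D ⊓ U) (ores hsubA w') = ores (f.preimage_mono hsubA) (f.app A w') :=
        ConcreteCategory.congr_hom (f.naturality (homOfLE hsubA).op) w'
      have h := congrArg (mres L (f.preimage_mono hsubA)) hc
      rw [mres_smul, mres_mres, mres_mres] at h
      rw [hnat, hw', hw, mres_mres]
      exact h
  choose W l w hyW hWy hl hw hlw using hchart
  let G : Glue Y :=
    { U := U
      ι := {y : Y // y ∉ U}
      V := W
      P := Coh.structureModule Y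
      g := fun i => w i
      hg := fun i => bijective_smul_one (w i) (hw i)
      hP := fun p hp => ⟨U, _, hp, le_rfl, bijective_smul_one 1 isUnit_one⟩
      disj := fun i j hij z hz => by
        by_contra hzU
        exact hij (Subtype.ext ((hWy i z hz.1 hzU).symm.trans (hWy j z hz.2 hzU)))
      cov := fun p => (em (p ∈ U)).imp id fun h => ⟨⟨p, h⟩, hyW ⟨p, h⟩⟩ }
  refine ⟨G.mod, G.isInvertible, G.pullback_iso' f
    (fun T hT n => f.app T (show Γ(Y, T) from n) • mres L (f.preimage_mono hT) g) ?_ ?_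
    (fun p hp => ⟨U, le_rfl, (1 : Γ(Y, U)), hp, bijective_smul_one 1 isUnit_one, ?_⟩) l hl hlw⟩
  · intro T T' hT h n
    show f.app T' (ores h (show Γ(Y, T) from n)) • _ = _
    rw [mres_smul, mres_mres]
    refine congrArg (· • mres L (f.preimage_mono (h.trans hT)) g) ?_
    exact ConcreteCategory.congr_hom (f.naturality (homOfLE h).op) (show Γ(Y, T) from n)
  · intro T hT c n
    show f.app T (c * (show Γ(Y, T) from n)) • _ = _
    rw [map_mul, mul_smul]
  · have e : f.app U (show Γ(Y, U) from (1 : Γ(Y, U))) • mres L (f.preimage_mono (le_rfl : U ≤ U)) g = g := by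
      rw [map_one, one_smul]
      exact mres_id L (f.preimage_mono (le_rfl : U ≤ U)) g
    exact e.symm ▸ hg

end Groth.Agent.Pic18
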