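import Groth.Agent.Lib.Pic18.GluePull
import Groth.Agent.Lib.Pic18.Chart
import Groth.Agent.Lib.RelProj11.GammaLim
import Mathlib.AlgebraicGeometry.Morphisms.ClosedImmersion

/-!
# Invertible modules with given restrictions to a closed cover with discrete intersections
-/

set_option autoImplicit false
set_option linter.style.haveILetI false
universe u

open CategoryTheory CategoryTheory.Limits AlgebraicGeometry TopologicalSpace Opposite

namespace Groth.Agent.Pic18

open Groth.Agent.M1

variable {X : Scheme.{u}}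

/-- Over an open contained in its support a closed subscheme of a reduced scheme is everything. -/
theorem app_bijective_of_le_support [IsReduced X] (I : X.IdealSheafData) {O : X.Opens}
    (h : (O : Set X) ⊆ I.support) : Function.Bijective (I.subschemeι.app O) := by
  haveI : Surjective (I.subschemeι ∣_ O) := ⟨fun z => by
    have hz : z.1 ∈ Set.range I.subschemeι := by
      rw [Scheme.IdealSheafData.range_subschemeι]
      exact h z.2
    obtain ⟨y, hy⟩ := hz
    exact ⟨⟨y, show I.subschemeι y ∈ O by rw [hy]; exact z.2⟩,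
      Subtype.ext ((morphismRestrict_base_coe I.subschemeι O _).trans hy)⟩⟩
  haveI : IsIso (I.subschemeι ∣_ O) := isIso_of_isClosedImmersion_of_surjective _
  have h1 : IsIso ((I.subschemeι ∣_ O).app ⊤) := inferInstance
  rw [morphismRestrict_app] at h1
  have hb : Function.Bijective ((I.subscheme.presheaf.map
      (eqToHom (image_morphismRestrict_preimage I.subschemeι O ⊤)).op) ∘ (I.subschemeι.app (O.ι ''ᵁ ⊤))) :=
    (ConcreteCategory.isIso_iff_bijective _).1 h1
  have h3 := (Function.Bijective.of_comp_iff' ((ConcreteCategory.isIso_iff_bijective _).1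
    (inferInstance : IsIso (I.subscheme.presheaf.map
      (eqToHom (image_morphismRestrict_preimage I.subschemeι O ⊤)).op))) _).1 hb
  rwa [M1.image_ι_top] at h3

variable {ι : Type u} [Finite ι] (Z : ι → X.IdealSheafData)

/-- The points lying on two members. -/
def badSet : Set X := ⋃ c : {c : ι × ι // c.1 ≠ c.2}, ((Z c.1.1).support : Set X) ∩ ((Z c.1.2).support : Set X)

theorem isClosed_badSet : IsClosed (badSet Z) :=
  isClosed_iUnion_of_finite fun c => (Z c.1.1).support.isClosed.inter (Z c.1.2).support.isClosed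

theorem discreteTopology_badSet
    (hdisc : ∀ i j, i ≠ j → DiscreteTopology ↥(((Z i).support : Set X) ∩ ((Z j).support : Set X))) :
    DiscreteTopology ↥(badSet Z) := by
  refine discreteTopology_iff_isOpen_singleton.2 fun x => ?_
  have hc : ∀ c : {c : ι × ι // c.1 ≠ c.2}, ∃ A : X.Opens, x.1 ∈ A ∧
      ∀ z ∈ A, z ∈ ((Z c.1.1).support : Set X) ∩ ((Z c.1.2).support : Set X) → z = x.1 := by
    intro c
    by_cases hx : x.1 ∈ ((Z c.1.1).support : Set X) ∩ ((Z c.1.2).support : Set X)
    · haveI := hdisc _ _ c.2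
      obtain ⟨A, hA, hA'⟩ := isOpen_induced_iff.1
        (isOpen_discrete ({⟨x.1, hx⟩} : Set ↥(((Z c.1.1).support : Set X) ∩ ((Z c.1.2).support : Set X))))
      refine ⟨⟨A, hA⟩, ?_, fun z hz hzc => ?_⟩
      · show (⟨x.1, hx⟩ : ↥(((Z c.1.1).support : Set X) ∩ _)) ∈ Subtype.val ⁻¹' A
        rw [hA']; rfl
      · have : (⟨z, hzc⟩ : ↥(((Z c.1.1).support : Set X) ∩ _)) ∈ Subtype.val ⁻¹' A := hz
        rw [hA'] at this
        exact congrArg Subtype.val this
    · exact ⟨⟨_, ((Z c.1.1).support.isClosed.inter (Z c.1.2).support.isClosed).isOpen_compl⟩, hx,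
        fun z hz hzc => absurd hzc hz⟩
  choose A hxA hA using hc
  refine isOpen_induced_iff.2 ⟨⋂ c, (A c : Set X), isOpen_iInter_of_finite fun c => (A c).2, ?_⟩
  ext z
  constructor
  · intro hz
    obtain ⟨c, hc⟩ := Set.mem_iUnion.1 z.2
    exact Subtype.ext (hA c z.1 (Set.mem_iInter.1 hz c) hc)
  · rintro rfl
    exact Set.mem_iInter.2 hxA

/-- The open complement of the intersections. -/
def goodOpen : X.Opens := ⟨(badSet Z)ᶜ, (isClosed_badSet Z).isOpen_compl⟩

variable {Z}

theorem eq_of_mem {i j : ι} {z : X} (hz : z ∈ goodOpen Z) (hi : z ∈ ((Z i).support : Set X))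
    (hj : z ∈ ((Z j).support : Set X)) : i = j := by
  by_contra h
  exact hz (Set.mem_iUnion.2 ⟨⟨(i, j), h⟩, hi, hj⟩)

variable (hcov : ⋃ i, ((Z i).support : Set X) = Set.univ)

omit [Finite ι] in
theorem range_subset (i : ι) (y : (Z i).subscheme) : (Z i).subschemeι y ∈ ((Z i).support : Set X) :=
  (Scheme.IdealSheafData.range_subschemeι (Z i)).le ⟨y, rfl⟩

variable (L : ∀ i, (Z i).subscheme.Modules)

/-- The product of the direct images. -/
noncomputable abbrev prodMod : X.Modules :=
  ∏ᶜ fun i => (Scheme.Modules.pushforward (Z i).subschemeι).obj (L i)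

include hcov in
/-- A family of generators generates the product away from the intersections. -/
theorem isGen_prod [IsReduced X] {W : X.Opens} (hW : W ≤ goodOpen Z) (s : Γ(prodMod L, W))
    (hl : ∀ i, Twist.IsGen (L i) ((Z i).subschemeι ⁻¹ᵁ W)
      ((Pi.π (fun i => (Scheme.Modules.pushforward (Z i).subschemeι).obj (L i)) i).app W s)) :
    Twist.IsGen (prodMod L) W s := by
  intro V hV
  let π := Pi.π (fun i => (Scheme.Modules.pushforward (Z i).subschemeι).obj (L i))
  let O : ι → X.Opens := fun i => V ⊓ ⟨⋂ j : {j // j ≠ i}, ((Z j.1).support : Set X)ᶜ,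
    isOpen_iInter_of_finite fun j => (Z j.1).support.isClosed.isOpen_compl⟩
  have hOi : ∀ i, (O i : Set X) ⊆ (Z i).support := fun i z hz => by
    obtain ⟨j, hj⟩ := Set.mem_iUnion.1 (hcov.symm.subset (Set.mem_univ z))
    by_cases h : j = i
    · exact h ▸ hj
    · exact absurd hj (Set.mem_iInter.1 hz.2 ⟨j, h⟩)
  have hVO : ∀ i, ∀ z ∈ V, z ∈ ((Z i).support : Set X) → z ∈ O i := fun i z hz hzi =>
    ⟨hz, Set.mem_iInter.2 fun j hj => j.2 (eq_of_mem (hW (hV hz)) hj hzi)⟩
  have hVcov : V ≤ ⨆ i, O i := fun z hz => by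
    obtain ⟨j, hj⟩ := Set.mem_iUnion.1 (hcov.symm.subset (Set.mem_univ z))
    exact Opens.mem_iSup.2 ⟨j, hVO j z hz hj⟩
  have hpre : ∀ i, (Z i).subschemeι ⁻¹ᵁ V ≤ (Z i).subschemeι ⁻¹ᵁ O i := fun i y hy =>
    hVO i _ hy (range_subset i y)
  have hπ : ∀ i (r : Γ(X, V)), (π i).app V (r • mres (prodMod L) hV s) =
      ((Z i).subschemeι.app V r • mres (L i) ((Z i).subschemeι.preimage_mono hV) ((π i).app W s) :
        Γ(L i, (Z i).subschemeι ⁻¹ᵁ V)) := fun i r => by
    refine ((π i).app_smul r _).trans ?_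
    rw [app_mres]
    rfl
  have happ : ∀ i (r : Γ(X, V)), ores ((Z i).subschemeι.preimage_mono (inf_le_left : O i ≤ V))
      ((Z i).subschemeι.app V r) = (Z i).subschemeι.app (O i) (ores (inf_le_left : O i ≤ V) r) := fun i r =>
    (ConcreteCategory.congr_hom ((Z i).subschemeι.naturality (homOfLE (inf_le_left : O i ≤ V)).op) r).symm
  constructor
  · intro r r' e
    refine X.sheaf.eq_of_locally_eq' O V (fun i => homOfLE inf_le_left) hVcov r r' fun i =>
      (app_bijective_of_le_support (Z i) (hOi i)).1 ?_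
    have h1 := congrArg ((π i).app V) e
    simp only [hπ] at h1
    exact (happ i r).symm.trans ((congrArg _ ((hl i _ ((Z i).subschemeι.preimage_mono hV)).1 h1)).trans (happ i r'))
  · intro m
    choose c hc using fun i => (hl i _ ((Z i).subschemeι.preimage_mono hV)).2 ((π i).app V m)
    choose r hr using fun i => (app_bijective_of_le_support (Z i) (hOi i)).2
      (ores ((Z i).subschemeι.preimage_mono (inf_le_left : O i ≤ V)) (c i))
    obtain ⟨R, hR, -⟩ := X.sheaf.existsUnique_gluing' O V (fun i => homOfLE inf_le_left) hVcov r fun i j => by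
      by_cases h : i = j
      · subst h; rfl
      · refine TopCat.Presheaf.section_ext X.sheaf _ _ _ fun z hz => ?_
        exact absurd (hOi i hz.1) fun hi => h (eq_of_mem (hW (hV hz.1.1)) hi (hOi j hz.2))
    refine ⟨R, RelProj11.pi_section_ext (W := V) (fun i => (Scheme.Modules.pushforward (Z i).subschemeι).obj (L i)) fun i => ?_⟩
    refine (hπ i R).trans (Eq.trans ?_ (hc i))
    congr 1
    refine TopCat.Presheaf.section_ext (Z i).subscheme.sheaf _ _ _ fun y hy => ?_
    have h2 := congrArg ((Z i).subscheme.presheaf.germ ((Z i).subschemeι ⁻¹ᵁ O i) y (hpre i hy))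
      ((happ i R).trans ((congrArg ((Z i).subschemeι.app (O i)) (hR i)).trans (hr i)))
    simp only [ores, TopCat.Presheaf.germ_res_apply] at h2
    exact h2

include hcov in
theorem exists_restricting [IsReduced X]
    (hdisc : ∀ i j, i ≠ j → DiscreteTopology ↥(((Z i).support : Set X) ∩ ((Z j).support : Set X)))
    (hL : ∀ i, PicF.IsInvertible (L i)) :
    ∃ M : X.Modules, PicF.IsInvertible M ∧
      ∀ i, Nonempty ((Scheme.Modules.pullback (Z i).subschemeι).obj M ≅ L i) := by
  classical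
  let π := Pi.π (fun i => (Scheme.Modules.pushforward (Z i).subschemeι).obj (L i))
  -- common generators near every point
  have hnear : ∀ x : X, ∃ (W : X.Opens) (l : ∀ i, Γ(L i, (Z i).subschemeι ⁻¹ᵁ W)),
      x ∈ W ∧ ∀ i, Twist.IsGen (L i) ((Z i).subschemeι ⁻¹ᵁ W) (l i) := by
    intro x
    have h : ∀ i, ∃ (W : X.Opens) (l : Γ(L i, (Z i).subschemeι ⁻¹ᵁ W)),
        x ∈ W ∧ Twist.IsGen (L i) ((Z i).subschemeι ⁻¹ᵁ W) l := by
      intro i
      by_cases hx : x ∈ ((Z i).support : Set X)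
      · obtain ⟨y, rfl⟩ := (Scheme.IdealSheafData.range_subschemeι (Z i)).ge hx
        obtain ⟨D, g, hyD, hg⟩ := ProjUP.exists_isGen_of_invertible (hL i) y
        obtain ⟨W, hW, hWD⟩ := (Z i).subschemeι.isEmbedding.toIsInducing.isOpen_iff.1 D.2
        have hle : (Z i).subschemeι ⁻¹ᵁ (⟨W, hW⟩ : X.Opens) ≤ D := fun z hz => hWD.le hz
        exact ⟨⟨W, hW⟩, mres (L i) hle g, hWD.ge hyD, hg.mres hle⟩
      · refine ⟨⟨_, (Z i).support.isClosed.isOpen_compl⟩, 0, hx, fun V hV => ?_⟩
        have hV' : V ≤ ⊥ := fun z hz => absurd (range_subset i z) (hV hz)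
        haveI := Curve17.subsingleton_sections_of_empty (L i) V hV'
        haveI : Subsingleton Γ((Z i).subscheme, V) :=
          Curve17.subsingleton_sections_of_empty (Coh.structureModule (Z i).subscheme) V hV'
        exact ⟨fun a b _ => Subsingleton.elim a b, fun b => ⟨0, Subsingleton.elim _ _⟩⟩
    choose W l hxW hl using h
    exact ⟨⟨⋂ i, (W i : Set X), isOpen_iInter_of_finite fun i => (W i).2⟩,
      fun i => mres (L i) ((Z i).subschemeι.preimage_mono fun z hz => Set.mem_iInter.1 hz i) (l i),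
      Set.mem_iInter.2 hxW, fun i => (hl i).mres _⟩
  have hgen : ∀ (W : X.Opens) (l : ∀ i, Γ(L i, (Z i).subschemeι ⁻¹ᵁ W)),
      (∀ i, Twist.IsGen (L i) ((Z i).subschemeι ⁻¹ᵁ W) (l i)) → W ≤ goodOpen Z →
        ∃ n : Γ(prodMod L, W), Twist.IsGen (prodMod L) W n ∧ ∀ i, (π i).app W n = l i := by
    intro W l hl hW
    obtain ⟨n, hn⟩ := RelProj11.exists_pi_section (W := W)
      (fun i => (Scheme.Modules.pushforward (Z i).subschemeι).obj (L i)) l
    exact ⟨n, isGen_prod hcov L hW n fun i => by rw [hn i]; exact hl i, hn⟩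
  have hPgen : ∀ p ∈ goodOpen Z, ∃ (D : X.Opens) (n : Γ(prodMod L, D)), p ∈ D ∧ D ≤ goodOpen Z ∧
      Twist.IsGen (prodMod L) D n ∧
      ∀ i, Twist.IsGen (L i) ((Z i).subschemeι ⁻¹ᵁ D) ((π i).app D n) := by
    intro p hp
    obtain ⟨W, l, hpW, hl⟩ := hnear p
    obtain ⟨n, hn, hni⟩ := hgen (W ⊓ goodOpen Z)
      (fun i => mres (L i) ((Z i).subschemeι.preimage_mono inf_le_left) (l i)) (fun i => (hl i).mres _)
      inf_le_right
    exact ⟨_, n, ⟨hpW, hp⟩, inf_le_right, hn, fun i => by rw [hni i]; exact (hl i).mres _⟩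
  -- charts at the intersections
  have hchart : ∀ x : {x : X // x ∉ goodOpen Z},
      ∃ (V : X.Opens) (l : ∀ i, Γ(L i, (Z i).subschemeι ⁻¹ᵁ V)) (n : Γ(prodMod L, V ⊓ goodOpen Z)),
        x.1 ∈ V ∧ (∀ z ∈ V, z ∉ goodOpen Z → z = x.1) ∧
        Twist.IsGen (prodMod L) (V ⊓ goodOpen Z) n ∧
        ∀ i, Twist.IsGen (L i) ((Z i).subschemeι ⁻¹ᵁ V) (l i) ∧
          (π i).app (V ⊓ goodOpen Z) n = mres (L i) ((Z i).subschemeι.preimage_mono inf_le_left) (l i) := by
    intro x
    have hd : DiscreteTopology ↥((goodOpen Z : Set X)ᶜ) := by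
      rw [show ((goodOpen Z : Set X)ᶜ) = badSet Z from compl_compl _]
      exact discreteTopology_badSet Z hdisc
    obtain ⟨A, hxA, hA⟩ := exists_open_inter_compl (goodOpen Z) hd x.2
    obtain ⟨W, l, hxW, hl⟩ := hnear x.1
    have hl' : ∀ i, Twist.IsGen (L i) ((Z i).subschemeι ⁻¹ᵁ (A ⊓ W))
        (mres (L i) ((Z i).subschemeι.preimage_mono inf_le_right) (l i)) := fun i => (hl i).mres _
    obtain ⟨n, hn, hni⟩ := hgen ((A ⊓ W) ⊓ goodOpen Z)
      (fun i => mres (L i) ((Z i).subschemeι.preimage_mono inf_le_left)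
        (mres (L i) ((Z i).subschemeι.preimage_mono inf_le_right) (l i)))
      (fun i => (hl' i).mres _) inf_le_right
    exact ⟨A ⊓ W, _, n, ⟨hxA, hxW⟩, fun z hz => hA z hz.1, hn, fun i => ⟨hl' i, hni i⟩⟩
  choose V l n hxV hVx hn hl using hchart
  let G : Glue X :=
    { U := goodOpen Z
      ι := {x : X // x ∉ goodOpen Z}
      V := V
      P := prodMod L
      g := n
      hg := hn
      hP := fun p hp => by
        obtain ⟨D, n, h1, h2, h3, -⟩ := hPgen p hp
        exact ⟨D, n, h1, h2, h3⟩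
      disj := fun i j hij z hz => by
        by_contra hzU
        exact hij (Subtype.ext ((hVx i z hz.1 hzU).symm.trans (hVx j z hz.2 hzU)))
      cov := fun p => (em (p ∈ goodOpen Z)).imp id fun h => ⟨⟨p, h⟩, hxV ⟨p, h⟩⟩ }
  refine ⟨G.mod, G.isInvertible, fun i => G.pullback_iso (Z i).subschemeι (π i) (fun p hp => ?_)
    (fun x => l x i) (fun x => (hl x i).1) fun x => (hl x i).2⟩
  obtain ⟨D, n, h1, h2, h3, h4⟩ := hPgen p hp
  exact ⟨D, n, h1, h2, h3, h4 i⟩

end Groth.Agent.Pic18
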