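import Groth.Agent.Lib.Pic18.Glue
import Groth.Agent.Lib.Pic18.Chart
import Groth.Prelude.Def_CohB1

/-!
# Invertible modules across a discrete complement with one-dimensional local rings
-/

set_option autoImplicit false
set_option linter.style.haveILetI false
universe u

open CategoryTheory AlgebraicGeometry TopologicalSpace Opposite

namespace Groth.Agent.Pic18

open Groth.Agent.M1

variable {X : Scheme.{u}} (U : X.Opens) [QuasiCompact U.ι] (hdisc : DiscreteTopology ↥((U : Set X)ᶜ))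
  (hloc : ∀ x : X, x ∉ U → IsNoetherianRing (X.presheaf.stalk x) ∧ ringKrullDim (X.presheaf.stalk x) ≤ 1)

include hdisc hloc in
theorem exists_invertible_genLocus :
    ∃ (L : X.Modules) (s : Coh.structureModule X ⟶ L), PicF.IsInvertible L ∧ CohB1.genLocus L s = U := by
  classical
  have hch := fun x : {x : X // x ∉ U} =>
    haveI := (hloc x.1 x.2).1
    exists_chart U hdisc x.2 (hloc x.1 x.2).2 U fun η hη hne => generization_mem U hdisc x.2 hη hne
  choose V f hV hxV hVx hVU hfU using hch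
  have hu : ∀ i, IsUnit (ores ((hVU i).le.trans (X.basicOpen_le _) : V i ⊓ U ≤ V i) (f i)) := fun i => by
    rw [← ores_ores (X.basicOpen_le (f i)) (hVU i).le]
    exact (show IsUnit (ores (X.basicOpen_le (f i)) (f i)) from
      X.toRingedSpace.isUnit_res_basicOpen (f i)).map _
  choose w hw using fun i => (hu i).exists_left_inv
  have hone : ∀ (W : X.Opens) (r : Γ(X, W)), r • one W = (r : Γ(Coh.structureModule X, W)) :=
    fun W r => mul_one r
  let G : Glue X :=
    { U := U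
      ι := {x : X // x ∉ U}
      V := V
      P := Coh.structureModule X
      g := fun i => w i • one (V i ⊓ U)
      hg := fun i W hW => by
        have hwu : IsUnit (ores hW (w i)) := (IsUnit.of_mul_eq_one _ (hw i)).map _
        have key : ∀ r : Γ(X, W), r • mres (Coh.structureModule X) hW (w i • one (V i ⊓ U)) =
            ((r * ores hW (w i) : Γ(X, W)) : Γ(Coh.structureModule X, W)) := fun r => by
          rw [mres_smul, mres_one, ← mul_smul, hone]
        simp only [key]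
        exact IsUnit.isUnit_iff_mulRight_bijective.mp hwu
      hP := fun p hp => ⟨U, one U, hp, le_rfl, fun W hW => by
        have key : ∀ r : Γ(X, W), r • mres (Coh.structureModule X) hW (one U) =
            (r : Γ(Coh.structureModule X, W)) := fun r => by rw [mres_one, hone]
        simp only [key]
        exact Function.bijective_id⟩
      disj := fun i j hij z hz => by
        by_contra hzU
        exact hij (Subtype.ext ((hVx i z hz.1 hzU).symm.trans (hVx j z hz.2 hzU)))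
      cov := fun p => (em (p ∈ U)).imp id fun h => ⟨⟨p, h⟩, hxV ⟨p, h⟩⟩ }
  let σ : ∀ p : (⊤ : X.Opens), G.T p.1 := fun p =>
    if h : p.1 ∈ U then ((Coh.structureModule X).presheaf.germ U p.1 h (one U), 0)
    else (0, X.presheaf.germ (V ⟨p.1, h⟩) p.1 (hxV ⟨p.1, h⟩) (f ⟨p.1, h⟩))
  have hσ : G.pre.sheafify.pred σ := by
    intro p
    by_cases hp : p.1 ∈ U
    · exact ⟨U, hp, homOfLE le_top, Or.inl ⟨le_rfl, one U, fun q => dif_pos q.2⟩⟩
    · refine ⟨V ⟨p.1, hp⟩, hxV _, homOfLE le_top, Or.inr ⟨⟨p.1, hp⟩, le_rfl, f ⟨p.1, hp⟩, fun q => ?_⟩⟩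
      by_cases hq : q.1 ∈ U
      · refine (dif_pos (hq : q.1 ∈ U)).trans ?_
        have hqV : q.1 ∈ V ⟨p.1, hp⟩ ⊓ U := ⟨q.2, hq⟩
        rw [G.E_pos (i := ⟨p.1, hp⟩) hqV, Prod.smul_mk, smul_zero]
        refine Prod.ext ?_ rfl
        show (Coh.structureModule X).presheaf.germ U q.1 hq (one U) =
          X.presheaf.germ (V ⟨p.1, hp⟩) q.1 q.2 (f ⟨p.1, hp⟩) •
            ((Coh.structureModule X).presheaf.germ (V ⟨p.1, hp⟩ ⊓ U) q.1 hqV (w ⟨p.1, hp⟩ • one _) :
              (Coh.structureModule X).presheaf.stalk q.1)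
        have hval : ores (inf_le_left : V ⟨p.1, hp⟩ ⊓ U ≤ _) (f ⟨p.1, hp⟩) • w ⟨p.1, hp⟩ • one _ =
            mres (Coh.structureModule X) (inf_le_right : V ⟨p.1, hp⟩ ⊓ U ≤ U) (one U) := by
          rw [← mul_smul, mul_comm, hw, one_smul, mres_one]
        have := congrArg ((Coh.structureModule X).presheaf.germ (V ⟨p.1, hp⟩ ⊓ U) q.1 hqV) hval
        rw [germ_smul, germ_mres, X.presheaf.germ_res_apply] at this
        exact this.symm
      · obtain ⟨p, hptop⟩ := p
        obtain ⟨q, hqV⟩ := q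
        obtain rfl : q = p := hVx ⟨p, hp⟩ q hqV hq
        refine (dif_neg hq).trans ?_
        rw [G.E_neg (i := ⟨q, hp⟩) hq]
        exact Prod.ext (smul_zero _).symm (mul_one _).symm
  let t : Γ(G.mod, ⊤) := ⟨σ, hσ⟩
  have htU : Twist.IsGen G.mod U (mres G.mod (le_top : U ≤ ⊤) t) := by
    have e : mres G.mod (le_top : U ≤ ⊤) t = G.ofN (W := U) le_rfl (one U) :=
      Subtype.ext (funext fun q => dif_pos q.2)
    rw [e]
    refine G.isGen_ofN le_rfl fun W hW => ?_
    have key : ∀ r : Γ(X, W), r • mres (Coh.structureModule X) hW (one U) =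
        (r : Γ(Coh.structureModule X, W)) := fun r => by rw [mres_one, hone]
    exact (funext key).symm ▸ Function.bijective_id
  refine ⟨G.mod, secHom t, G.isInvertible, Twist.genLocus_secHom_eq t U (fun W hW => ?_) fun U' hU' x hx' => ?_⟩
  · have := htU W hW
    simpa only [mres_mres] using this
  · by_contra hx
    let i : {x : X // x ∉ U} := ⟨x, hx⟩
    obtain ⟨b, hb⟩ := (hU' (U' ⊓ V i) inf_le_left).2 (mres G.mod inf_le_right (G.e i))
    have h := congrArg (fun m : Γ(G.mod, U' ⊓ V i) => (m.1 ⟨x, ⟨hx', hxV i⟩⟩).2) hb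
    have h' : X.presheaf.germ (U' ⊓ V i) x ⟨hx', hxV i⟩ b * (σ ⟨x, trivial⟩).2 = (G.E i x).2 := h
    rw [G.E_neg hx, show σ ⟨x, trivial⟩ = (0, X.presheaf.germ (V i) x (hxV i) (f i)) from dif_neg hx] at h'
    have h1 : X.presheaf.germ (U' ⊓ V i) x ⟨hx', hxV i⟩ b * X.presheaf.germ (V i) x (hxV i) (f i) = 1 := h'
    have hmem := (X.mem_basicOpen (f i) x (hxV i)).2 (isUnit_of_mul_isUnit_right (h1 ▸ isUnit_one))
    exact hx (hfU i hmem)

include hdisc hloc in
theorem pic_surjective (N : (↑U : Scheme.{u}).Modules) (hN : PicF.IsInvertible N) :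
    ∃ L : X.Modules, PicF.IsInvertible L ∧ Nonempty (L.restrict U.ι ≅ N) := by
  classical
  let P : X.Modules := (Scheme.Modules.pushforward U.ι).obj N
  let eP : P.restrict U.ι ≅ N := asIso ((Scheme.Modules.restrictAdjunction U.ι).counit.app N)
  have hP : ∀ p ∈ U, ∃ (D : X.Opens) (n : Γ(P, D)), p ∈ D ∧ D ≤ U ∧ Twist.IsGen P D n := by
    intro p hp
    obtain ⟨D, g, hpD, hg⟩ := Curve17.exists_isGen_of_restrict U.ι P (fun y => by
      obtain ⟨D, hD, ⟨e⟩⟩ := hN y
      exact ⟨D, hD, ⟨(Scheme.Modules.restrictFunctor D.ι).mapIso eP ≪≫ e⟩⟩) ⟨p, hp⟩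
    exact ⟨D ⊓ U, mres P inf_le_left g, ⟨hpD, hp⟩, inf_le_right, hg.mres inf_le_left⟩
  have hch : ∀ x : {x : X // x ∉ U}, ∃ (V : X.Opens) (g : Γ(P, V ⊓ U)),
      x.1 ∈ V ∧ (∀ z ∈ V, z ∉ U → z = x.1) ∧ Twist.IsGen P (V ⊓ U) g := by
    intro x
    haveI := (hloc x.1 x.2).1
    obtain ⟨W, g, hg, hW⟩ := exists_gen_nhds U hdisc x.2 (hloc x.1 x.2).2 P hP
    obtain ⟨V, f, -, hxV, hVx, hVU, hfW⟩ := exists_chart U hdisc x.2 (hloc x.1 x.2).2 W hW
    exact ⟨V, mres P (hVU.le.trans hfW) g, hxV, hVx, hg.mres _⟩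
  choose V g hxV hVx hg using hch
  let G : Glue X :=
    { U := U
      ι := {x : X // x ∉ U}
      V := V
      P := P
      g := g
      hg := hg
      hP := hP
      disj := fun i j hij z hz => by
        by_contra hzU
        exact hij (Subtype.ext ((hVx i z hz.1 hzU).symm.trans (hVx j z hz.2 hzU)))
      cov := fun p => (em (p ∈ U)).imp id fun h => ⟨⟨p, h⟩, hxV ⟨p, h⟩⟩ }
  obtain ⟨e⟩ := G.nonempty_restrict_iso
  exact ⟨G.mod, G.isInvertible, ⟨e ≪≫ eP⟩⟩

end Groth.Agent.Pic18
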